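/-
Four weighted norm-one scalars summing to zero with a prescribed square class of their product.
-/
import Cfsg.Agent.Lib.ClassicalMax.UDecompBase
import Mathlib.NumberTheory.JacobiSum.Basic
import Mathlib.NumberTheory.LegendreSymbol.QuadraticChar.Basic
set_option autoImplicit false
set_option linter.unusedSectionVars false

namespace CfsgLib.ClassicalMax.UDec.SixU

open Unit

variable {K : Type*} [Field K] [Fintype K] [DecidableEq K]

lemma sum_char_pair (hK : ringChar K ≠ 2) {a b : K} (hab : a ≠ b) :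
    ∑ x, quadraticChar K ((x - a) * (x - b)) = -1 := by
  have hd : b - a ≠ 0 := sub_ne_zero.2 hab.symm
  rw [← Equiv.sum_comp ((Equiv.mulLeft₀ (b - a) hd).trans (Equiv.addRight a))]
  have h : ∀ y : K, quadraticChar K (((b - a) * y + a - a) * ((b - a) * y + a - b))
      = quadraticChar K (-1) * (quadraticChar K y * quadraticChar K (1 - y)) := fun y => by
    rw [show ((b - a) * y + a - a) * ((b - a) * y + a - b)
      = (b - a) ^ 2 * (-1 * (y * (1 - y))) by ring, map_mul, quadraticChar_sq_one' hd, one_mul,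
      map_mul, map_mul]
  simp only [Equiv.trans_apply, Equiv.mulLeft₀_apply, Equiv.coe_addRight, h]
  rw [← Finset.mul_sum]
  have hj := jacobiSum_nontrivial_inv (quadraticChar_ne_one hK)
  rw [MulChar.IsQuadratic.inv (quadraticChar_isQuadratic K), jacobiSum] at hj
  rw [hj, mul_neg, ← map_mul]
  simp

variable {F : Type*} [Field F] [Fintype F] {σ : F ≃+* F}
  (hne : σ ≠ RingEquiv.refl F) (h2 : ∀ a : F, σ (σ a) = a)

include hne h2

lemma pow_qq (x : F) : x ^ qq σ = σ x := ((exists_card_eq hne h2).2 x).symm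

lemma pow_qq_succ (u : nOne σ) : val u ^ (qq σ + 1) = 1 := by
  rw [pow_succ', pow_qq hne h2]; exact val_norm u

variable (hchar : (2 : F) ≠ 0)
include hchar

lemma ringChar_ne_two : ringChar F ≠ 2 := fun e => hchar (by
  have := ringChar.Nat.cast_ringChar (R := F)
  rw [e] at this
  exact_mod_cast this)

lemma qq_odd : qq σ = 2 * (qq σ / 2) + 1 := by
  have h := FiniteField.odd_card_of_char_ne_two (ringChar_ne_two hne h2 hchar)
  rw [card_F hne h2, Nat.pow_mod] at h
  rcases Nat.mod_two_eq_zero_or_one (qq σ) with h' | h'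
  · rw [h'] at h; simp at h
  · omega

lemma fix_pow {a : F} (ha : σ a = a) (ha0 : a ≠ 0) :
    a ^ (qq σ / 2) = 1 ∨ a ^ (qq σ / 2) = -1 := by
  refine mul_self_eq_one_iff.1 (mul_right_cancel₀ ha0 ?_)
  rw [← pow_add, ← pow_succ, ← two_mul, ← qq_odd hne h2 hchar, pow_qq hne h2, ha, one_mul]

lemma phase_pow (u : nOne σ) :
    val u ^ (qq σ / 2 + 1) = 1 ∨ val u ^ (qq σ / 2 + 1) = -1 := by
  refine mul_self_eq_one_iff.1 ?_
  rw [← pow_add, show qq σ / 2 + 1 + (qq σ / 2 + 1) = qq σ + 1 by
    have := qq_odd hne h2 hchar; omega, pow_qq_succ hne h2]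

lemma phase_class {x : F} (hx : x ≠ 0) :
    (x / σ x) ^ (qq σ / 2 + 1) * (x * σ x) ^ (qq σ / 2) = 1 := by
  have hσ : σ x ≠ 0 := fun e => hx (σ.injective (by rw [e, map_zero]))
  have e : x ^ (2 * (qq σ / 2) + 1) = σ x := by rw [← qq_odd hne h2 hchar, pow_qq hne h2]
  rw [div_pow, mul_pow, div_mul_eq_mul_div, div_eq_one_iff_eq (pow_ne_zero _ hσ),
    pow_succ (σ x), ← mul_assoc, ← pow_add,
    show qq σ / 2 + 1 + qq σ / 2 = 2 * (qq σ / 2) + 1 by ring, e, mul_comm]

lemma exists_trace {t : F} (ht : σ t = t)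
    (hD : t * t - 4 = 0 ∨ (t * t - 4) ^ (qq σ / 2) = -1) :
    ∃ u : nOne σ, val u + σ (val u) = t := by
  obtain ⟨w, hw, hσw⟩ : ∃ w, w * w = t * t - 4 ∧ σ w = -w := by
    rcases hD with hD | hD
    · exact ⟨0, by rw [hD, mul_zero], by simp⟩
    · have hD0 : t * t - 4 ≠ 0 := by
        intro e
        rw [e] at hD
        have := qq_odd hne h2 hchar
        have := two_le_qq hne h2
        rw [zero_pow (by omega)] at hD
        simp at hD
      obtain ⟨w, hw⟩ := (FiniteField.isSquare_iff (ringChar_ne_two hne h2 hchar) hD0).2 (by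
        have hcard : Fintype.card F / 2 = qq σ / 2 * (qq σ + 1) := by
          have h := qq_odd hne h2 hchar
          rw [card_F hne h2]
          generalize qq σ / 2 = k at h ⊢
          rw [h, show (2 * k + 1) ^ 2 = 1 + 2 * (k * (2 * k + 1 + 1)) by ring,
            Nat.add_mul_div_left _ _ two_pos]
          simp
        rw [hcard, pow_mul, hD]
        exact Even.neg_one_pow ⟨qq σ / 2 + 1, by have := qq_odd hne h2 hchar; omega⟩)
      refine ⟨w, hw.symm, ?_⟩
      rw [← pow_qq hne h2, qq_odd hne h2 hchar, pow_succ, two_mul, pow_add, ← mul_pow, ← hw, hD,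
        neg_one_mul]
  have hn : ((t + w) / 2) * σ ((t + w) / 2) = 1 := by
    rw [map_div₀, map_add, ht, hσw, map_ofNat]
    field_simp
    linear_combination -hw
  refine ⟨⟨Units.mk0 ((t + w) / 2) (fun e => by rw [e, zero_mul] at hn; exact zero_ne_one hn), hn⟩, ?_⟩
  change (t + w) / 2 + σ ((t + w) / 2) = t
  rw [map_div₀, map_add, ht, hσw, map_ofNat]
  field_simp
  ring

lemma pow_trace_class {u : nOne σ} (hu : val u ≠ -1) {t : F} (ht : val u + σ (val u) = t) :
    (t + 2) ^ (qq σ / 2) = val u ^ (qq σ / 2 + 1) := by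
  set z := val u
  have hz : z * σ z = 1 := val_norm u
  have hz1 : z + 1 ≠ 0 := fun e => hu (eq_neg_of_add_eq_zero_left e)
  have e1 : (z + 1) * (z + 1) = z * (t + 2) := by linear_combination z * ht - hz
  have h3 : ((z + 1) * (z + 1)) ^ (qq σ / 2) = σ z := by
    refine mul_right_cancel₀ hz1 ?_
    rw [← pow_two, ← pow_mul, ← pow_succ, ← qq_odd hne h2 hchar, pow_qq hne h2, map_add, map_one]
    linear_combination -hz
  rw [e1, mul_pow] at h3
  rcases phase_pow hne h2 hchar u with h4 | h4 <;> rw [pow_succ] at h4 ⊢ <;> rw [h4]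
  · linear_combination z * h3 - (t + 2) ^ (qq σ / 2) * h4 + hz
  · linear_combination -z * h3 + (t + 2) ^ (qq σ / 2) * h4 - hz

lemma fixed_two : (2 : fixedField σ) ≠ 0 := fun e => hchar (by
  rw [← map_ofNat (fixedField σ).subtype 2, e, map_zero])

lemma fixed_ringChar : ringChar (fixedField σ) ≠ 2 := fun e => fixed_two hne h2 hchar (by
  have := ringChar.Nat.cast_ringChar (R := fixedField σ)
  rw [e] at this
  exact_mod_cast this)

/-- Two vectors with a prescribed norm of their sum, and the class of their phase. -/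
lemma side [Fintype (fixedField σ)] [DecidableEq (fixedField σ)]
    {m n : fixedField σ} (hm : m ≠ 0) (hn : n ≠ 0) (W : fixedField σ) :
    let χ := quadraticChar (fixedField σ)
    let f : ℤ := 1 - χ ((W - (m - n) ^ 2) * (W - (m + n) ^ 2))
    let g : ℤ := χ (m * n) * (χ (W - (m - n) ^ 2) - χ (W - (m + n) ^ 2))
    (f = 0 ∧ g = 0) ∨ ∃ u : nOne σ, ∃ c : ℤ, (c = 1 ∨ c = -1) ∧
      (c : F) = val u ^ (qq σ / 2 + 1) ∧ g = c * f ∧
      ((m : F) + val u * n) * σ ((m : F) + val u * n) = (W : F) := by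
  intro χ f g
  have hK := fixed_ringChar hne h2 hchar
  have h20 := fixed_two hne h2 hchar
  have hcK : Fintype.card (fixedField σ) = qq σ := (Nat.card_eq_fintype_card).symm
  have hcast : ∀ a : fixedField σ, ((χ a : ℤ) : F) = (a : F) ^ (qq σ / 2) := fun a => by
    have h := congrArg (fixedField σ).subtype (quadraticChar_eq_pow_of_char_ne_two' hK a)
    rw [map_intCast, map_pow, hcK] at h
    exact h
  have hmn : m * n ≠ 0 := mul_ne_zero hm hn
  set A := W - (m - n) ^ 2 with hA
  set B := W - (m + n) ^ 2 with hB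
  have hAB : A - B = 2 * 2 * (m * n) := by rw [hA, hB]; ring
  by_cases hsq : χ (A * B) = 1
  · left
    refine ⟨by simp only [f, ← hA, ← hB]; omega, ?_⟩
    have hA0 : A ≠ 0 := fun e => by simp [e, MulChar.map_zero] at hsq
    have hB0 : B ≠ 0 := fun e => by simp [e, MulChar.map_zero] at hsq
    rw [map_mul] at hsq
    simp only [g, ← hA, ← hB]
    rcases quadraticChar_dichotomy hA0 with e | e <;> rcases quadraticChar_dichotomy hB0 with e' | e' <;>
      simp [χ, e, e'] at hsq ⊢
  right
  set t : F := ((W : F) - (m : F) ^ 2 - (n : F) ^ 2) / ((m : F) * n) with ht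
  have hm' : (m : F) ≠ 0 := fun e => hm (Subtype.ext (by simpa using e))
  have hn' : (n : F) ≠ 0 := fun e => hn (Subtype.ext (by simpa using e))
  have hmF : σ (m : F) = m := m.2
  have hnF : σ (n : F) = n := n.2
  have hWF : σ (W : F) = W := W.2
  have htσ : σ t = t := by
    simp only [ht, map_div₀, map_sub, map_mul, map_pow, hmF, hnF, hWF]
  have hD : t * t - 4 = ((A * B : fixedField σ) : F) / ((m : F) * n) ^ 2 := by
    rw [ht, hA, hB]; push_cast; field_simp; ring
  obtain ⟨u, hu⟩ := exists_trace hne h2 hchar htσ (by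
    rw [hD]
    by_cases h0 : A * B = 0
    · left; rw [h0]; simp
    · right
      have h1 := hcast (A * B)
      have h3 := hcast ((m * n) ^ 2)
      rw [(quadraticChar_dichotomy h0).resolve_left hsq] at h1
      have h4 : χ ((m * n) ^ 2) = 1 := quadraticChar_sq_one' hmn
      rw [h4] at h3
      rw [div_pow, ← h1]
      push_cast at h3
      rw [← h3]; simp)
  have hnorm : ((m : F) + val u * n) * σ ((m : F) + val u * n) = (W : F) := by
    rw [map_add, map_mul, hmF, hnF]
    have h' : (val u + σ (val u)) * ((m : F) * n) = (W : F) - (m : F) ^ 2 - (n : F) ^ 2 := by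
      rw [hu, ht, div_mul_cancel₀ _ (mul_ne_zero hm' hn')]
    linear_combination h' + (n : F) ^ 2 * val_norm u
  have ht2 : t + 2 = (A : F) / ((m : F) * n) := by rw [ht, hA]; push_cast; field_simp; ring
  by_cases hA0 : A = 0
  · have hu1 : val u = -1 := by
      have e : val u + σ (val u) = -2 := by
        rw [hu]; rw [hA0] at ht2; simp at ht2; linear_combination ht2
      have e2 : (val u + 1) * (val u + 1) = 0 := by linear_combination val u * e - val_norm u
      exact eq_neg_of_add_eq_zero_left (mul_self_eq_zero.1 e2)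
    refine ⟨u, -χ (-1), ?_, ?_, ?_, hnorm⟩
    · rcases quadraticChar_dichotomy (neg_ne_zero.2 (one_ne_zero (α := fixedField σ))) with e | e <;>
        simp [χ, e]
    · rw [hu1, Int.cast_neg, hcast]; push_cast; ring
    · have hBv : B = -1 * (2 ^ 2 * (m * n)) := by linear_combination -hAB + hA0
      simp only [f, g, ← hA, ← hB]
      have hv : χ (-1 * (2 ^ 2 * (m * n))) = χ (-1) * χ (m * n) := by
        rw [map_mul, map_mul χ (2 ^ 2), show χ (2 ^ 2) = 1 from quadraticChar_sq_one' h20, one_mul]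
      rw [hA0, zero_mul, MulChar.map_zero, hBv, hv]
      have h1 : χ (m * n) ^ 2 = 1 := quadraticChar_sq_one hmn
      linear_combination (-χ (-1)) * h1
  · have hu1 : val u ≠ -1 := fun e => hA0 (by
      have : (A : F) = 0 := by
        have h := ht2
        rw [← hu, e, map_neg, map_one, show (-1 : F) + -1 + 2 = 0 by ring, eq_comm, div_eq_zero_iff] at h
        exact h.resolve_right (mul_ne_zero hm' hn')
      exact Subtype.ext (by simpa using this))
    refine ⟨u, χ A * χ (m * n), ?_, ?_, ?_, hnorm⟩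
    · rcases quadraticChar_dichotomy hA0 with e | e <;>
        rcases quadraticChar_dichotomy hmn with e' | e' <;> simp [χ, e, e']
    · rw [Int.cast_mul, hcast, hcast, ← pow_trace_class hne h2 hchar hu1 hu, ht2, div_pow,
        Subfield.coe_mul]
      rcases fix_pow hne h2 hchar (a := (m : F) * n) (by rw [map_mul, hmF, hnF])
        (mul_ne_zero hm' hn') with e | e <;> simp [e, div_neg]
    · simp only [f, g, ← hA, ← hB]
      by_cases hB0 : B = 0
      · have hAv : A = 2 ^ 2 * (m * n) := by linear_combination hAB + hB0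
        rw [hB0, mul_zero, MulChar.map_zero]
        ring
      · have h' : χ A * χ B = -1 := by
          rw [← map_mul]
          exact (quadraticChar_dichotomy (mul_ne_zero hA0 hB0)).resolve_left hsq
        have hA2 : χ A ^ 2 = 1 := quadraticChar_sq_one hA0
        rw [map_mul χ A B, h']
        linear_combination -(χ (m * n) * χ A) * h' + (χ (m * n) * χ B) * hA2

/-- Four weights without a vanishing signed sum admit both classes. -/
theorem quad {n : Fin 4 → F} (hfix : ∀ l, σ (n l) = n l) (h0 : ∀ l, n l ≠ 0)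
    (hnd : ∀ a b c : F, (a = 1 ∨ a = -1) → (b = 1 ∨ b = -1) → (c = 1 ∨ c = -1) →
      n 0 + a * n 1 + b * n 2 + c * n 3 ≠ 0)
    {e : F} (he : e = 1 ∨ e = -1) :
    ∃ d : Fin 4 → nOne σ, ∑ l, val (d l) * n l = 0 ∧
      val (∏ l, d l) ^ (qq σ / 2 + 1) = e := by
  classical
  haveI := Fintype.ofFinite (fixedField σ)
  let N : Fin 4 → fixedField σ := fun l => ⟨n l, hfix l⟩
  have hN : ∀ l, N l ≠ 0 := fun l e => h0 l (congrArg Subtype.val e)
  have hK := fixed_ringChar hne h2 hchar
  have h20 := fixed_two hne h2 hchar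
  set χ := quadraticChar (fixedField σ)
  set a := (N 0 - N 1) ^ 2 with ha
  set b := (N 0 + N 1) ^ 2 with hb
  set a' := (N 2 - N 3) ^ 2 with ha'
  set b' := (N 2 + N 3) ^ 2 with hb'
  have hab : a ≠ b := fun h => mul_ne_zero (mul_ne_zero h20 h20) (mul_ne_zero (hN 0) (hN 1))
    (by linear_combination -h)
  have hab' : a' ≠ b' := fun h => mul_ne_zero (mul_ne_zero h20 h20) (mul_ne_zero (hN 2) (hN 3))
    (by linear_combination -h)
  have hdist : ∀ x y : F, (x = 1 ∨ x = -1) → (y = 1 ∨ y = -1) →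
      (n 0 + x * n 1) ^ 2 ≠ (n 2 + y * n 3) ^ 2 := by
    intro x y hx hy h
    rcases sq_eq_sq_iff_eq_or_eq_neg.1 h with h' | h'
    · exact hnd x (-1) (-y) hx (Or.inr rfl) (by rcases hy with rfl | rfl <;> simp)
        (by linear_combination h')
    · exact hnd x 1 y hx (Or.inl rfl) hy (by linear_combination h')
  have haa : a ≠ a' := fun h => hdist (-1) (-1) (Or.inr rfl) (Or.inr rfl)
    (by simpa [a, a', N, ← sub_eq_add_neg] using congrArg Subtype.val h)
  have hab2 : a ≠ b' := fun h => hdist (-1) 1 (Or.inr rfl) (Or.inl rfl)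
    (by simpa [a, b', N, ← sub_eq_add_neg] using congrArg Subtype.val h)
  have hba : b ≠ a' := fun h => hdist 1 (-1) (Or.inl rfl) (Or.inr rfl)
    (by simpa [b, a', N, ← sub_eq_add_neg] using congrArg Subtype.val h)
  have hbb : b ≠ b' := fun h => hdist 1 1 (Or.inl rfl) (Or.inl rfl)
    (by simpa [b, b', N] using congrArg Subtype.val h)
  let f₁ : fixedField σ → ℤ := fun W => 1 - χ ((W - a) * (W - b))
  let f₂ : fixedField σ → ℤ := fun W => 1 - χ ((W - a') * (W - b'))
  let g₁ : fixedField σ → ℤ := fun W => χ (N 0 * N 1) * (χ (W - a) - χ (W - b))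
  let g₂ : fixedField σ → ℤ := fun W => χ (N 2 * N 3) * (χ (W - a') - χ (W - b'))
  have hg : ∑ W, g₁ W * g₂ W = 0 := by
    have h : ∀ W, g₁ W * g₂ W = χ (N 0 * N 1) * χ (N 2 * N 3) *
        (χ ((W - a) * (W - a')) - χ ((W - a) * (W - b')) - χ ((W - b) * (W - a'))
          + χ ((W - b) * (W - b'))) := fun W => by
      simp only [g₁, g₂, map_mul]; ring
    simp only [h, ← Finset.mul_sum, Finset.sum_add_distrib, Finset.sum_sub_distrib]
    rw [sum_char_pair hK haa, sum_char_pair hK hab2, sum_char_pair hK hba, sum_char_pair hK hbb]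
    ring
  have hf : 0 < ∑ W, f₁ W * f₂ W := by
    have h : ∀ W, f₁ W * f₂ W = 1 - χ ((W - a) * (W - b)) - χ ((W - a') * (W - b'))
        + χ ((W - a) * (W - b) * ((W - a') * (W - b'))) := fun W => by
      simp only [f₁, f₂, map_mul]; ring
    simp only [h, Finset.sum_add_distrib, Finset.sum_sub_distrib]
    rw [sum_char_pair hK hab, sum_char_pair hK hab']
    have hlow : ∀ x : fixedField σ, (-1 : ℤ) ≤ χ x := fun x => by
      rcases quadraticChar_isQuadratic (fixedField σ) x with e | e | e <;> simp [χ, e]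
    have h3 := Finset.sum_le_sum fun (W : fixedField σ) (_ : W ∈ Finset.univ) =>
      hlow ((W - a) * (W - b) * ((W - a') * (W - b')))
    simp only [Finset.sum_const, Finset.card_univ, nsmul_eq_mul, mul_one, mul_neg] at h3 ⊢
    omega
  by_contra hcon
  obtain ⟨e₀, he₀, he₀v⟩ : ∃ e₀ : ℤ, (e₀ = 1 ∨ e₀ = -1) ∧ (e₀ : F) = e := by
    rcases he with h | h
    · exact ⟨1, Or.inl rfl, by simp [h]⟩
    · exact ⟨-1, Or.inr rfl, by simp [h]⟩
  have key : ∀ W, g₁ W * g₂ W = -e₀ * (f₁ W * f₂ W) := by
    intro W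
    rcases side hne h2 hchar (hN 0) (hN 1) W with ⟨hf1, hg1⟩ | ⟨u, c, hc, hcu, hg1, hu⟩
    · change f₁ W = 0 at hf1; change g₁ W = 0 at hg1; simp [hf1, hg1]
    rcases side hne h2 hchar (hN 2) (hN 3) W with ⟨hf2, hg2⟩ | ⟨v, c', hc', hcv, hg2, hv⟩
    · change f₂ W = 0 at hf2; change g₂ W = 0 at hg2; simp [hf2, hg2]
    change g₁ W = c * f₁ W at hg1
    change g₂ W = c' * f₂ W at hg2
    rw [hg1, hg2]
    set z := n 0 + val u * n 1 with hz
    set z' := n 2 + val v * n 3 with hz'
    obtain ⟨ζ, hζ⟩ := exists_phase (σ := σ) (p := z') (r := -z) (by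
      change z * σ z = (W : F) at hu; change z' * σ z' = (W : F) at hv
      rw [map_neg]; linear_combination hv - hu)
    have hne' : c * c' ≠ e₀ := fun hcc => hcon ⟨![1, u, ζ, ζ * v], ?_, ?_⟩
    · have : c * c' = -e₀ := by
        rcases hc with rfl | rfl <;> rcases hc' with rfl | rfl <;> rcases he₀ with rfl | rfl <;>
          simp at hne' ⊢
      linear_combination (f₁ W * f₂ W) * this
    · simp [Fin.sum_univ_four, val] at hζ ⊢
      rw [hz, hz'] at hζ
      simp only [val] at hζ
      linear_combination hζ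
    · rw [← he₀v, ← hcc, Int.cast_mul, hcu, hcv, Fin.prod_univ_four,
        show val (![1, u, ζ, ζ * v] 0 * ![1, u, ζ, ζ * v] 1 * ![1, u, ζ, ζ * v] 2 *
          ![1, u, ζ, ζ * v] 3) = val u * (val ζ * val ζ) * val v by simp [val]; ring,
        mul_pow, mul_pow, mul_pow]
      rcases phase_pow hne h2 hchar ζ with h | h <;> rw [h] <;> ring
  have h := hg
  rw [Finset.sum_congr rfl (fun W _ => key W), ← Finset.mul_sum] at h
  rcases he₀ with rfl | rfl <;> omega

end CfsgLib.ClassicalMax.UDec.SixU
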