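/-
Six distinct weights with sum one cannot have all pairs of equal class balanced by a third weight.
-/
import Mathlib
set_option autoImplicit false

namespace CfsgLib.ClassicalMax.UDec.SixU

variable {ι : Type*} [Fintype ι] [DecidableEq ι] {K : Type*} [Field K]

/-- `x` balances the pair `i`, `j`. -/
def Bal (N : ι → K) (i j x : ι) : Prop := x ≠ i ∧ x ≠ j ∧ N i + N j + 2 * N x = 1

variable {N : ι → K} (hN : Function.Injective N) (h2 : (2 : K) ≠ 0) (hcard : Fintype.card ι = 6)
  (hsum : ∑ i, N i = 1)

include hN h2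

omit [Fintype ι] [DecidableEq ι] in
lemma Bal.right_unique {i j j' x : ι} (h : Bal N i j x) (h' : Bal N i j' x) : j = j' :=
  hN (by linear_combination h.2.2 - h'.2.2)

omit [Fintype ι] [DecidableEq ι] in
lemma Bal.unique {i j x x' : ι} (h : Bal N i j x) (h' : Bal N i j x') : x = x' :=
  hN (mul_left_cancel₀ h2 (by linear_combination h.2.2 - h'.2.2))

include hcard hsum

omit h2 in
lemma compl_sum {a b c : ι} (hab : a ≠ b) (hac : a ≠ c) (hbc : b ≠ c) :
    ∑ x ∈ ({a, b, c} : Finset ι)ᶜ, N x = 1 - (N a + N b + N c) := by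
  have h := Finset.sum_add_sum_compl ({a, b, c} : Finset ι) N
  rw [hsum, Finset.sum_insert (by simp [hab, hac]), Finset.sum_pair hbc] at h
  linear_combination h

/-- A triple with balanced pairs contains a special element. -/
lemma triple_special {a b c : ι} (hab : a ≠ b) (hac : a ≠ c) (hbc : b ≠ c)
    {x y z : ι} (hx : Bal N b c x) (hy : Bal N a c y) (hz : Bal N a b z) :
    x = a ∨ y = b ∨ z = c := by
  by_contra hcon
  push Not at hcon
  have hxy : x ≠ y := fun e => hab (hN (by
    have := e ▸ hx.2.2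
    linear_combination hy.2.2 - this))
  have hxz : x ≠ z := fun e => hac (hN (by
    have := e ▸ hx.2.2
    linear_combination hz.2.2 - this))
  have hyz : y ≠ z := fun e => hbc (hN (by
    have := e ▸ hy.2.2
    linear_combination hz.2.2 - this))
  have hset : ({x, y, z} : Finset ι) = ({a, b, c} : Finset ι)ᶜ := by
    refine Finset.eq_of_subset_of_card_le ?_ ?_
    · intro w hw
      simp only [Finset.mem_insert, Finset.mem_singleton] at hw
      rcases hw with rfl | rfl | rfl <;>
        simp [hx.1, hx.2.1, hy.1, hy.2.1, hz.1, hz.2.1, hcon.1, hcon.2.1, hcon.2.2]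
    · rw [Finset.card_compl, hcard]
      simp [hab, hac, hbc, hxy, hxz, hyz]
  have hs := compl_sum hN hcard hsum hab hac hbc
  rw [← hset, Finset.sum_insert (by simp [hxy, hxz]), Finset.sum_pair hyz] at hs
  exact one_ne_zero (α := K) (by linear_combination -(hx.2.2 + hy.2.2 + hz.2.2 - 2 * hs))

/-- Five weights of one class. -/
lemma five_false {A : Finset ι} (hA : A.card = 5)
    (hbal : ∀ i ∈ A, ∀ j ∈ A, i ≠ j → ∃ x, Bal N i j x) : False := by
  classical
  have hin : ∀ i ∈ A, ∀ j ∈ A, i ≠ j → ∀ x, Bal N i j x → x ∈ A := by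
    intro i hi j hj hij x hx
    by_contra hxA
    have hspec : ∀ c ∈ (A.erase i).erase j, Bal N j c i ∨ Bal N i c j := by
      intro c hc
      simp only [Finset.mem_erase] at hc
      obtain ⟨u, hu⟩ := hbal j hj c hc.2.2 (Ne.symm hc.1)
      obtain ⟨v, hv⟩ := hbal i hi c hc.2.2 (Ne.symm hc.2.1)
      rcases triple_special hN h2 hcard hsum hij (Ne.symm hc.2.1) (Ne.symm hc.1) hu hv hx with
        h | h | h
      · exact Or.inl (h ▸ hu)
      · exact Or.inr (h ▸ hv)
      · exact absurd (h ▸ hc.2.2) hxA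
    have hle : ((A.erase i).erase j).card ≤ 2 := by
      refine (Finset.card_le_card (t := ((A.erase i).erase j).filter (fun c => Bal N j c i) ∪
        ((A.erase i).erase j).filter (fun c => Bal N i c j)) fun c hc => ?_).trans
        ((Finset.card_union_le _ _).trans (Nat.add_le_add (Finset.card_le_one.2 ?_)
          (Finset.card_le_one.2 ?_)))
      · rcases hspec c hc with h | h <;> simp [hc, h]
      all_goals
        intro c hc d hd
        exact Bal.right_unique hN h2 (Finset.mem_filter.1 hc).2 (Finset.mem_filter.1 hd).2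
    rw [Finset.card_erase_of_mem (Finset.mem_erase.2 ⟨Ne.symm hij, hj⟩),
      Finset.card_erase_of_mem hi, hA] at hle
    omega
  have key : ∀ a ∈ A, N a = 4 - 3 * ∑ i ∈ A, N i := by
    intro a ha
    choose! X hX using fun j (hj : j ∈ A.erase a) =>
      hbal a ha j (Finset.mem_of_mem_erase hj) (Ne.symm (Finset.ne_of_mem_erase hj))
    have hmap : (A.erase a).image X = A.erase a := by
      refine Finset.eq_of_subset_of_card_le ?_ ?_
      · intro w hw
        obtain ⟨j, hj, rfl⟩ := Finset.mem_image.1 hw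
        exact Finset.mem_erase.2 ⟨(hX j hj).1, hin a ha j (Finset.mem_of_mem_erase hj)
          (Ne.symm (Finset.ne_of_mem_erase hj)) _ (hX j hj)⟩
      · rw [Finset.card_image_of_injOn]
        intro j hj k hk e
        exact Bal.right_unique hN h2 (e ▸ hX j hj) (hX k hk)
    have h1 : ∑ j ∈ A.erase a, (N a + N j + 2 * N (X j)) = ∑ j ∈ A.erase a, (1 : K) :=
      Finset.sum_congr rfl fun j hj => (hX j hj).2.2
    have h3 : ∑ j ∈ A.erase a, N (X j) = ∑ j ∈ A.erase a, N j := by
      conv_rhs => rw [← hmap]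
      rw [Finset.sum_image]
      intro j hj k hk e
      exact Bal.right_unique hN h2 (e ▸ hX j hj) (hX k hk)
    rw [Finset.sum_add_distrib, Finset.sum_add_distrib, ← Finset.mul_sum, h3, Finset.sum_const,
      Finset.sum_const, Finset.card_erase_of_mem ha, hA, Finset.sum_erase_eq_sub ha] at h1
    simp only [show 5 - 1 = 4 from rfl, nsmul_eq_mul, mul_one, Nat.cast_ofNat] at h1
    linear_combination h1
  obtain ⟨a, ha, b, hb, hab⟩ := Finset.one_lt_card.1 (show 1 < A.card by omega)
  exact hab (hN ((key a ha).trans (key b hb).symm))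

/-- Two classes of three weights. -/
lemma three_three_false {a b c d e f : ι} (hab : a ≠ b) (hac : a ≠ c) (hbc : b ≠ c) (hde : d ≠ e)
    (hdf : d ≠ f) (hef : e ≠ f) (hA : ({d, e, f} : Finset ι) = ({a, b, c} : Finset ι)ᶜ)
    (hc : Bal N a b c) (hf : Bal N d e f) {p p' r r' : ι} (hp : Bal N b c p) (hp' : Bal N a c p')
    (hr : Bal N e f r) (hr' : Bal N d f r') : False := by
  have hsB := compl_sum hN hcard hsum hab hac hbc
  rw [← hA, Finset.sum_insert (by simp [hde, hdf]), Finset.sum_pair hef] at hsB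
  have hcv := hc.2.2
  have hfv := hf.2.2
  have hcU : N c = N d + N e + N f := by linear_combination hcv - hsB
  have hfT : N f = N a + N b + N c := by linear_combination hfv - hsB
  have mem : ∀ {w : ι}, w ≠ a → w ≠ b → w ≠ c → w = d ∨ w = e ∨ w = f := fun {w} h1 h3 h4 => by
    have : w ∈ ({a, b, c} : Finset ι)ᶜ := Finset.mem_compl.2 (by simp [h1, h3, h4])
    rw [← hA] at this
    simpa using this
  have mem' : ∀ {w : ι}, w ≠ d → w ≠ e → w ≠ f → w = a ∨ w = b ∨ w = c := fun {w} h1 h3 h4 => by
    by_contra hh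
    push Not at hh
    rcases mem hh.1 hh.2.1 hh.2.2 with h | h | h
    exacts [h1 h, h3 h, h4 h]
  have hpa : p ≠ a := fun e0 => hac (hN (by
    have h := e0 ▸ hp.2.2
    linear_combination h - hcv))
  have hp'b : p' ≠ b := fun e0 => hbc (hN (by
    have h := e0 ▸ hp'.2.2
    linear_combination h - hcv))
  have hrd : r ≠ d := fun e0 => hdf (hN (by
    have h := e0 ▸ hr.2.2
    linear_combination h - hfv))
  have hr'e : r' ≠ e := fun e0 => hef (hN (by
    have h := e0 ▸ hr'.2.2
    linear_combination h - hfv))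
  have hpp : p ≠ p' := fun e0 => hab (hN (by
    have h := e0 ▸ hp.2.2
    linear_combination hp'.2.2 - h))
  have hrr : r ≠ r' := fun e0 => hde (hN (by
    have h := e0 ▸ hr.2.2
    linear_combination hr'.2.2 - h))
  have hz : ∃ z, (z = d ∨ z = e ∨ z = f) ∧ N z = N d + N e + N f - N p - N p' := by
    rcases mem hpa hp.1 hp.2.1 with rfl | rfl | rfl <;>
      rcases mem hp'.1 hp'b hp'.2.1 with rfl | rfl | rfl <;> first
        | exact absurd rfl hpp
        | exact ⟨d, Or.inl rfl, by ring⟩
        | exact ⟨e, Or.inr (Or.inl rfl), by ring⟩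
        | exact ⟨f, Or.inr (Or.inr rfl), by ring⟩
  have hg : ∃ g, (g = a ∨ g = b ∨ g = c) ∧ N g = N a + N b + N c - N r - N r' := by
    rcases mem' hrd hr.1 hr.2.1 with rfl | rfl | rfl <;>
      rcases mem' hr'.1 hr'e hr'.2.1 with rfl | rfl | rfl <;> first
        | exact absurd rfl hrr
        | exact ⟨a, Or.inl rfl, by ring⟩
        | exact ⟨b, Or.inr (Or.inl rfl), by ring⟩
        | exact ⟨c, Or.inr (Or.inr rfl), by ring⟩
  obtain ⟨z, hzm, hzv⟩ := hz
  obtain ⟨g, hgm, hgv⟩ := hg
  have hab' : N a + N b = -(N d + N e) := by linear_combination -hfT - hcU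
  have hz2 : 2 * N z = -(N a + N b) := by
    linear_combination 2 * hzv - hp.2.2 - hp'.2.2 + 2 * hsB
  have hg2 : 2 * N g = N a + N b := by
    linear_combination 2 * hgv - hr.2.2 - hr'.2.2 + hfv + hcv
  rcases hzm with rfl | rfl | rfl
  · exact hde (hN (by linear_combination hz2 - hab'))
  · exact hde (hN (by linear_combination hab' - hz2))
  rcases hgm with rfl | rfl | rfl
  · exact hab (hN (by linear_combination hg2))
  · exact hab (hN (by linear_combination -hg2))
  · refine one_ne_zero (α := K) ?_
    have h : N g + N z = 0 := (mul_eq_zero.1 (by linear_combination hz2 + hg2 :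
      (2 : K) * (N g + N z) = 0)).resolve_left h2
    linear_combination h - hcU - hfT - hsB

end CfsgLib.ClassicalMax.UDec.SixU
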