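/-
Six coordinates: an overgroup of the monomial unitary group with monomial line fixers has no full column.
-/
import Cfsg.Agent.Lib.ClassicalMax.UDecompLine
import Cfsg.Agent.Lib.ClassicalMax.UnitSixDecomp.Quad
import Cfsg.Agent.Lib.ClassicalMax.UnitSixDecomp.Weights
set_option autoImplicit false
set_option linter.unusedSectionVars false
set_option maxHeartbeats 1000000

namespace CfsgLib.ClassicalMax.UDec.SixU

open Matrix Cfsg.Geo MonG Unit

variable {ι : Type} [Fintype ι] [DecidableEq ι] {F : Type*} [Field F] [Fintype F] {σ : F ≃+* F}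
  {M : Subgroup (GL ι F)}
  (hne : σ ≠ RingEquiv.refl F) (h2 : ∀ a : F, σ (σ a) = a)
  (hM : HasU σ M) (hiso : M ≤ isoOf (stdF (ι := ι) σ)) (hn : Fintype.card ι = 6)
  (hq : 3 ≤ qq σ) (hno : NoLine M)

include hne h2 hM hiso hn hq hno

omit hM hiso hn hno in
lemma four_le_card : 4 ≤ Fintype.card (nOne σ) := by
  have := qq_add_one_le hne h2
  rw [Nat.card_eq_fintype_card] at this
  omega

omit hne h2 hiso hq in
lemma two_supp'' {g : GL ι F} (hg : g ∈ M) (hgm : ¬ Mon g) (b a : ι) :
    ∃ y, y ≠ a ∧ MonG.col g b y ≠ 0 := by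
  by_contra h
  push Not at h
  obtain ⟨y, hya, hyb, -⟩ := exists_notMem (by omega) a b b
  obtain ⟨D, hD, -, -⟩ := exists_mon hM (Equiv.swap a b) y (fun _ => 1)
  have hk : Mon (mon (Equiv.swap a b) D * g) := by
    refine hno _ (M.mul_mem hD hg) b fun i hi => ?_
    rw [← congrFun (col_eq (mon (Equiv.swap a b) D * g) b) i, gl_mulVec_mul, col_eq', mon_mulVec,
      h _ ?_, mul_zero]
    intro e
    exact hi (by rw [Equiv.symm_apply_eq] at e; simp [e])
  apply hgm
  have := Mon_mul (Mon_inv (mon_Mon (Equiv.swap a b) D)) hk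
  rwa [← mul_assoc, inv_mul_cancel, one_mul] at this

omit hn in
/-- A column with two zeros confines each column meeting them. -/
lemma supp_pair {g : GL ι F} (hg : g ∈ M) {a b z z' : ι} (hzz : z ≠ z') (ha : MonG.col g a z = 0)
    (ha' : MonG.col g a z' = 0) (hbz : MonG.col g b z ≠ 0) {y : ι} (hyz : y ≠ z) (hyz' : y ≠ z') :
    MonG.col g b y = 0 := by
  classical
  by_contra hby
  have hd : ∀ t : nOne σ, mon 1 (dfun z (t : Fˣ) z' ((t : Fˣ))⁻¹) ∈ M := fun t => by
    refine hM _ _ (fun x => ?_) (by rw [det_mon, prod_dfun hzz]; simp)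
    unfold dfun
    rw [Function.update_apply, Function.update_apply]
    split_ifs
    · exact (nOne σ).inv_mem t.2
    · exact t.2
    · exact (nOne σ).one_mem
  have hfix : ∀ t : nOne σ, (mon 1 (dfun z (t : Fˣ) z' ((t : Fˣ))⁻¹) : Matrix ι ι F) *ᵥ MonG.col g a
      = (1 : F) • MonG.col g a := fun t => by
    funext x
    rw [dg_mulVec, one_smul]
    by_cases h1 : x = z
    · simp [h1, ha]
    by_cases h3 : x = z'
    · simp [h3, ha']
    simp [dfun, h1, h3]
  choose π c hc he using fun t => perm_cols hno hg (hd t) (hfix t) b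
  have hinj : Function.Injective π := fun s t hst => by
    have e : ∀ x, c t * (((dfun z (s : Fˣ) z' ((s : Fˣ))⁻¹ x : Fˣ) : F) * MonG.col g b x)
        = c s * (((dfun z (t : Fˣ) z' ((t : Fˣ))⁻¹ x : Fˣ) : F) * MonG.col g b x) := fun x => by
      have e1 := congrFun (he s) x
      have e2 := congrFun (he t) x
      simp only [dg_mulVec, Pi.smul_apply, smul_eq_mul] at e1 e2
      rw [e1, e2, hst]; ring
    have e1 := e y
    have e2 := e z
    simp [dfun, hyz, hyz', hzz] at e1 e2
    rw [e1.resolve_right hby] at e2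
    exact val_injective (mul_right_cancel₀ hbz (mul_left_cancel₀ (hc s) e2))
  set A : ι → F := MonG.col g b - Pi.single z (MonG.col g b z) - Pi.single z' (MonG.col g b z')
  set W := Submodule.span F (Set.range ![A, Pi.single z (1 : F), Pi.single z' (1 : F)])
  have hW : ∀ t, MonG.col g (π t) ∈ W := fun t => by
    rw [show MonG.col g (π t) = (c t)⁻¹ • (c t • MonG.col g (π t)) by rw [inv_smul_smul₀ (hc t)],
      ← he t, dg_mulVec]
    refine W.smul_mem _ ?_
    rw [show (fun x => ((dfun z (t : Fˣ) z' ((t : Fˣ))⁻¹ x : Fˣ) : F) * MonG.col g b x) =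
        A + (val t * MonG.col g b z) • Pi.single z 1 + ((val t)⁻¹ * MonG.col g b z') • Pi.single z' 1
        from ?_]
    · exact W.add_mem (W.add_mem (Submodule.subset_span ⟨0, rfl⟩)
        (W.smul_mem _ (Submodule.subset_span ⟨1, rfl⟩))) (W.smul_mem _ (Submodule.subset_span ⟨2, rfl⟩))
    funext x
    by_cases h1 : x = z
    · subst h1; simp [A, dfun, val, hzz]
    by_cases h3 : x = z'
    · subst h3; simp [A, dfun, val, h1]
    simp [A, dfun, h1, h3]
  have h1 := Submodule.finrank_mono (Submodule.span_le.2 (Set.range_subset_iff.2 hW))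
  have h3 := finrank_range_le_card (R := F) ![A, Pi.single z (1 : F), Pi.single z' (1 : F)]
  rw [show (fun t => MonG.col g (π t)) = MonG.col g ∘ π from rfl,
    finrank_span_eq_card ((linearIndependent_col g).comp π hinj)] at h1
  have h4 := four_le_card hne h2 hq
  simp only [Fintype.card_fin] at h3
  change _ ≤ Module.finrank F W at h1
  change Module.finrank F W ≤ 3 at h3
  omega

/-- No column has two zeros. -/
lemma col_one_zero {g : GL ι F} (hg : g ∈ M) (hgm : ¬ Mon g) {a z z' : ι} (ha : MonG.col g a z = 0)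
    (ha' : MonG.col g a z' = 0) : z = z' := by
  classical
  by_contra hzz
  obtain ⟨b, hbz⟩ := exists_row_ne_zero g z
  have hb : ∀ y, y ≠ z → y ≠ z' → MonG.col g b y = 0 := fun y h1 h3 =>
    supp_pair hne h2 hM hiso hq hno hg hzz ha ha' hbz h1 h3
  obtain ⟨u, huz, huz', -⟩ := exists_notMem (by omega) z z' z'
  obtain ⟨v, hvz, hvz', hvu⟩ := exists_notMem (by omega) z z' u
  obtain ⟨w, hw⟩ : ∃ w, w ∉ ({z, z', u, v} : Finset ι) := by
    by_contra hcon
    push Not at hcon
    have h := Finset.card_le_card (fun x (_ : x ∈ (Finset.univ : Finset ι)) => hcon x)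
    rw [Finset.card_univ, hn] at h
    have := h.trans Finset.card_le_four
    omega
  simp only [Finset.mem_insert, Finset.mem_singleton, not_or] at hw
  obtain ⟨b', hb'u⟩ := exists_row_ne_zero g u
  obtain ⟨y, hyu, hy⟩ := two_supp'' hM hn hno hg hgm b' u
  by_cases hyv : y = v
  · exact hy (supp_pair hne h2 hM hiso hq hno hg (Ne.symm hw.2.2.1) (hb u huz huz')
      (hb w hw.1 hw.2.1) hb'u hyu (hyv ▸ Ne.symm hw.2.2.2))
  · exact hy (supp_pair hne h2 hM hiso hq hno hg hvu.symm (hb u huz huz') (hb v hvz hvz') hb'u hyu hyv)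

lemma row_one_zero {g : GL ι F} (hg : g ∈ M) (hgm : ¬ Mon g) {b b' z : ι} (hb : MonG.col g b z = 0)
    (hb' : MonG.col g b' z = 0) : b = b' :=
  col_one_zero hne h2 hM hiso hn hq hno (M.inv_mem hg) (fun h => hgm (by simpa using Mon_inv h))
    (a := z) (by rw [inv_col h2 hiso hg, hb, map_zero]) (by rw [inv_col h2 hiso hg, hb', map_zero])

lemma zero_false {g : GL ι F} (hg : g ∈ M) (hgm : ¬ Mon g) {a z : ι} (ha : MonG.col g a z = 0) :
    False := by
  classical
  have hcz : ∀ y, y ≠ z → MonG.col g a y ≠ 0 := fun y hy e =>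
    hy (col_one_zero hne h2 hM hiso hn hq hno hg hgm e ha)
  have hrz : ∀ b, b ≠ a → MonG.col g b z ≠ 0 := fun b hb e =>
    hb (row_one_zero hne h2 hM hiso hn hq hno hg hgm e ha)
  by_cases hA : ∃ l : nOne σ, l ^ Fintype.card ι ≠ 1
  · obtain ⟨l, hl⟩ := hA
    set η : nOne σ := (l ^ Fintype.card ι)⁻¹ with hη
    let D : ι → Fˣ := Function.update (fun _ => (l : Fˣ)) z ((l : Fˣ) * (η : Fˣ))
    have hDm : mon 1 D ∈ M := by
      refine hM _ _ (fun y => ?_) ?_
      · simp only [D, Function.update_apply]
        split_ifs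
        · exact (nOne σ).mul_mem l.2 η.2
        · exact l.2
      · rw [det_mon, map_one, Units.val_one, Int.cast_one, one_mul, ← Units.coe_prod,
          Finset.prod_update_of_mem (Finset.mem_univ z), Finset.prod_const,
          ← Finset.compl_eq_univ_sdiff, Finset.card_compl, Finset.card_singleton]
        rw [mul_comm (l : Fˣ) (η : Fˣ), mul_assoc, ← pow_succ', Nat.sub_add_cancel (by omega), hη]
        simp
    have hfix : (mon 1 D : Matrix ι ι F) *ᵥ MonG.col g a = val l • MonG.col g a := by
      funext y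
      rw [dg_mulVec, Pi.smul_apply, smul_eq_mul]
      by_cases hy : y = z
      · simp [hy, ha]
      · simp [D, hy, val]
    obtain ⟨b, hba, -⟩ := exists_notMem (by omega) a a a
    obtain ⟨b', c, hc, he⟩ := perm_cols hno hg hDm hfix b
    have hbb : b' ≠ b := by
      rintro rfl
      obtain ⟨y, hy, hy'⟩ := two_supp'' hM hn hno hg hgm b' z
      have e1 := congrFun he y
      have e2 := congrFun he z
      rw [dg_mulVec, Pi.smul_apply, smul_eq_mul] at e1 e2
      simp [D, hy] at e1
      simp [D] at e2
      have h1 := (e1.resolve_right hy').symm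
      have h3 := e2.resolve_right (hrz b' hba)
      rw [h1] at h3
      have : val η = 1 := mul_left_cancel₀ (val_ne_zero l) (by rw [mul_one]; exact h3)
      have h' : η = 1 := by simpa [val] using this
      exact hl (inv_eq_one.1 h')
    obtain ⟨b'', h1, h3, h4⟩ := exists_notMem (by omega) a b b'
    refine h1 (row_one_zero hne h2 hM hiso hn hq hno hg hgm ?_ ha)
    have hdec : c • MonG.col g b' - val l • MonG.col g b
        = Pi.single z (val l * (val η - 1) * MonG.col g b z) := by
      rw [← he, dg_mulVec]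
      funext y
      by_cases hy : y = z
      · subst hy; simp [D, val]; ring
      · simp [D, hy, val]
    have h5 := congrArg (fun x => stdF σ (MonG.col g b'') x) hdec
    simp only [stdF_single] at h5
    rw [sub_right (isU hne h2), smul_right (isU hne h2), smul_right (isU hne h2),
      col_orth hiso hg h4, col_orth hiso hg h3, mul_zero, mul_zero, sub_zero] at h5
    refine (mul_eq_zero.1 h5.symm).resolve_right fun e => ?_
    have e' : val l * (val η - 1) * MonG.col g b z = 0 := σ.injective (by rw [e, map_zero])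
    rcases mul_eq_zero.1 e' with e' | e'
    · rcases mul_eq_zero.1 e' with e' | e'
      · exact val_ne_zero l e'
      · have h' : η = 1 := by simpa [val] using sub_eq_zero.1 e'
        exact hl (inv_eq_one.1 h')
    · exact hrz b hba e'
  push Not at hA
  have hqle : qq σ + 1 ≤ Fintype.card ι := by
    refine (qq_add_one_le hne h2).trans ?_
    rw [Nat.card_eq_fintype_card, ← Finset.card_univ,
      ← Finset.card_image_of_injective Finset.univ (f := fun x : nOne σ => (x : Fˣ))
        Subtype.val_injective]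
    refine (Finset.card_le_card (t := Finset.univ.filter fun x : Fˣ => x ^ Fintype.card ι = 1)
      fun x hx => ?_).trans (IsCyclic.card_pow_eq_one_le (by omega))
    obtain ⟨y, -, rfl⟩ := Finset.mem_image.1 hx
    exact Finset.mem_filter.2 ⟨Finset.mem_univ _, by
      rw [← SubmonoidClass.coe_pow, hA y, OneMemClass.coe_one]⟩
  -- two coordinates of equal norm
  obtain ⟨k, hk, l, hl, hkl, hN⟩ := Finset.exists_ne_map_eq_of_card_lt_of_maps_to
    (s := Finset.univ.erase z) (t := (Finset.univ.filter fun x : F => σ x = x).erase 0)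
    (f := fun y => MonG.col g a y * σ (MonG.col g a y))
    (by
      rw [Finset.card_erase_of_mem (Finset.mem_univ z), Finset.card_univ,
        Finset.card_erase_of_mem (by simp)]
      have : (Finset.univ.filter fun x : F => σ x = x).card = qq σ := by
        rw [qq, Nat.card_eq_fintype_card, Fintype.card_subtype]
        rfl
      omega)
    (fun y hy => by
      have hy0 := hcz y (Finset.ne_of_mem_erase hy)
      refine Finset.mem_erase.2 ⟨mul_ne_zero hy0 fun e => hy0 (σ.injective (by rw [e, map_zero])),
        Finset.mem_filter.2 ⟨Finset.mem_univ _, ?_⟩⟩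
      rw [map_mul, h2, mul_comm])
  have hkz := Finset.ne_of_mem_erase hk
  have hlz := Finset.ne_of_mem_erase hl
  obtain ⟨p, hp⟩ := exists_phase (σ := σ) hN
  let D : ι → Fˣ := Function.update (dfun k (p : Fˣ) l ((p : Fˣ))⁻¹) z (-1)
  have hDo : ∀ y, y ≠ k → y ≠ l → y ≠ z → D y = 1 := fun y h1 h3 h4 => by
    simp [D, dfun, h1, h3, h4]
  have hh : mon (Equiv.swap k l) D ∈ M := by
    refine hM _ _ (fun y => ?_) ?_
    · simp only [D, dfun, Function.update_apply, Pi.one_apply]
      split_ifs
      · simp [mem_nOne]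
      · exact (nOne σ).inv_mem p.2
      · exact p.2
      · exact (nOne σ).one_mem
    · rw [det_mon, Equiv.Perm.sign_swap hkl,
        ← Finset.prod_subset (Finset.subset_univ ({k, l, z} : Finset ι)) (fun y _ hy => by
          simp only [Finset.mem_insert, Finset.mem_singleton, not_or] at hy
          simp [hDo y hy.1 hy.2.1 hy.2.2]),
        Finset.prod_insert (by simp [hkl, hkz]), Finset.prod_pair hlz]
      simp [D, dfun, hkl, hkz, hlz]
  set h := mon (Equiv.swap k l) D with hh'
  have happ : ∀ x : ι → F, ∀ y, ((h : Matrix ι ι F) *ᵥ x) y =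
      if y = k then (val p)⁻¹ * x l else if y = l then val p * x k else
        if y = z then - x z else x y := fun x y => by
    rw [hh', mon_mulVec, Equiv.symm_swap]
    split_ifs with h1 h3 h4
    · subst h1; simp [D, dfun, hlz, val]
    · subst h3; simp [D, dfun, hkl, hkz, val]
    · subst h4; simp [D, Equiv.swap_apply_of_ne_of_ne h1 h3]
    · simp [Equiv.swap_apply_of_ne_of_ne h1 h3, hDo y h1 h3 h4]
  have hfix : (h : Matrix ι ι F) *ᵥ MonG.col g a = (1 : F) • MonG.col g a := by
    funext y
    rw [happ, one_smul]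
    split_ifs with h1 h3 h4
    · subst h1; rw [← hp, inv_mul_cancel_left₀ (val_ne_zero p)]
    · subst h3; exact hp
    · subst h4; simp [ha]
    · rfl
  choose π c hc he using fun b => perm_cols hno hg hh hfix b
  have heig : ∀ b, π b = b → c b = 1 := fun b hb => by
    obtain ⟨y, hy1, hy2, hy3, hy⟩ : ∃ y, y ≠ k ∧ y ≠ l ∧ y ≠ z ∧ MonG.col g b y ≠ 0 := by
      obtain ⟨y₁, hy₁⟩ : ∃ y₁, y₁ ∉ ({k, l, z} : Finset ι) := by
        obtain ⟨y, h1, h3, h4⟩ := exists_notMem (by omega) k l z
        exact ⟨y, by simp [h1, h3, h4]⟩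
      obtain ⟨y₂, hy₂⟩ : ∃ y₂, y₂ ∉ ({k, l, z, y₁} : Finset ι) := by
        by_contra hcon
        push Not at hcon
        have := Finset.card_le_card (fun x (_ : x ∈ (Finset.univ : Finset ι)) => hcon x)
        rw [Finset.card_univ] at this
        have := this.trans Finset.card_le_four
        omega
      simp only [Finset.mem_insert, Finset.mem_singleton, not_or] at hy₁ hy₂
      by_cases h0 : MonG.col g b y₁ = 0
      · exact ⟨y₂, hy₂.1, hy₂.2.1, hy₂.2.2.1, fun e =>
          hy₂.2.2.2 (col_one_zero hne h2 hM hiso hn hq hno hg hgm e h0)⟩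
      · exact ⟨y₁, hy₁.1, hy₁.2.1, hy₁.2.2, h0⟩
    have e := congrFun (he b) y
    rw [hb, happ, if_neg hy1, if_neg hy2, if_neg hy3, Pi.smul_apply, smul_eq_mul] at e
    exact (mul_right_cancel₀ hy (by rw [one_mul]; exact e)).symm
  let w₁ : ι → F := Pi.single l 1 - (val p)⁻¹ • Pi.single k 1
  have hdiff : ∀ x : ι → F, (h : Matrix ι ι F) *ᵥ x - x
      = (val p * x k - x l) • w₁ + (-(2 * x z)) • Pi.single z 1 := fun x => by
    funext y
    rw [Pi.sub_apply, happ]
    have := val_ne_zero p
    split_ifs with h1 h3 h4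
    · subst h1; simp [w₁, hkl, hkz]; field_simp; ring
    · subst h3; simp [w₁, h1, hlz]
    · subst h4; simp [w₁, h1, h3]; ring
    · simp [w₁, h1, h3, h4]
  set W := Submodule.span F (Set.range ![w₁, Pi.single z (1 : F)])
  have hW : Module.finrank F W ≤ 2 :=
    (finrank_range_le_card (R := F) ![w₁, Pi.single z (1 : F)]).trans (by simp)
  have hmov : ∀ b, c b • MonG.col g (π b) - MonG.col g b ∈ W := fun b => by
    rw [← he, hdiff]
    exact W.add_mem (W.smul_mem _ (Submodule.subset_span ⟨0, rfl⟩))
      (W.smul_mem _ (Submodule.subset_span ⟨1, rfl⟩))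
  by_cases hchar : (2 : F) = 0
  · -- characteristic two
    obtain ⟨v, hv⟩ : ∃ v, π v ≠ v := by
      by_contra hall
      push Not at hall
      have e : h * g = g := by
        refine Units.ext (Matrix.ext_of_mulVec_single fun b => ?_)
        rw [Units.val_mul, ← mulVec_mulVec, col_eq', he, hall, heig b (hall b), one_smul]
      have e2 : h = 1 := mul_right_cancel (e.trans (one_mul g).symm)
      have e3 := happ (Pi.single k 1) k
      rw [e2, if_pos rfl, Units.val_one, one_mulVec] at e3
      simp [hkl.symm] at e3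
    have hva : v ≠ a := by
      rintro rfl
      refine hv (col_smul_inj g (hc v) (c' := (1 : F)) ?_)
      rw [← he v]; exact hfix
    set v' := π v
    have hv'a : v' ≠ a := fun e => by
      have h1 : (h : Matrix ι ι F) *ᵥ MonG.col g v = (h : Matrix ι ι F) *ᵥ (c v • MonG.col g a) := by
        rw [mulVec_smul, hfix, one_smul, he v]
        exact congrArg _ (congrArg _ e)
      have h3 := gl_mulVec_injective h h1
      exact hva (col_smul_inj g one_ne_zero (c' := c v) (by rw [one_smul]; exact h3))
    obtain ⟨ζ, hζ1, -⟩ := exists_val_ne hne h2 1 1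
    let E : ι → Fˣ := Function.update (dfun v (ζ : Fˣ) v' (ζ : Fˣ)) a (((ζ : Fˣ) * ζ)⁻¹)
    have hEo : ∀ b, b ≠ v → b ≠ v' → b ≠ a → E b = 1 := fun b h1 h3 h4 => by
      simp [E, dfun, h1, h3, h4]
    have hE : mon 1 E ∈ M := by
      refine hM _ _ (fun y => ?_) ?_
      · simp only [E, dfun, Function.update_apply, Pi.one_apply]
        split_ifs
        · exact (nOne σ).inv_mem ((nOne σ).mul_mem ζ.2 ζ.2)
        · exact ζ.2
        · exact ζ.2
        · exact (nOne σ).one_mem
      · rw [det_mon, ← Finset.prod_subset (Finset.subset_univ ({v, v', a} : Finset ι)) (fun y _ hy => by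
            simp only [Finset.mem_insert, Finset.mem_singleton, not_or] at hy
            simp [hEo y hy.1 hy.2.1 hy.2.2]),
          Finset.prod_insert (by simp [(Ne.symm hv), hva]), Finset.prod_pair hv'a]
        simp [E, dfun, (Ne.symm hv), hva, hv'a]
    set x := g * mon 1 E * g⁻¹ with hx
    have hxM : x ∈ M := M.mul_mem (M.mul_mem hg hE) (M.inv_mem hg)
    have hcn : c v * σ (c v) = 1 := by
      have h1 := mem_isoOf.1 (hiso hh) (MonG.col g v) (MonG.col g v)
      rw [he v, (isU hne h2).smul_left, smul_right (isU hne h2), col_norm hiso hg,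
        col_norm hiso hg, mul_one] at h1
      exact h1
    have hvz : c v * MonG.col g v' z = MonG.col g v z := by
      have e := congrFun (he v) z
      rw [happ, if_neg hkz.symm, if_neg hlz.symm, if_pos rfl, Pi.smul_apply, smul_eq_mul] at e
      linear_combination -e - MonG.col g v z * hchar
    have hcol : MonG.col x z = Pi.single z 1 +
        ((val ζ - 1) * σ (MonG.col g v z)) • (MonG.col g v + (h : Matrix ι ι F) *ᵥ MonG.col g v) := by
      have h1 : (mon 1 E : Matrix ι ι F) *ᵥ (MonG.col g⁻¹ z) = MonG.col g⁻¹ z +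
          (((val ζ - 1) * σ (MonG.col g v z)) • Pi.single v 1 +
            ((val ζ - 1) * σ (MonG.col g v' z)) • Pi.single v' 1) := by
        funext b
        rw [dg_mulVec]
        by_cases hb1 : b = v
        · subst hb1; simp [E, dfun, hva, (Ne.symm hv), inv_col h2 hiso hg, val]; ring
        by_cases hb3 : b = v'
        · subst hb3; simp [E, dfun, hv'a, hv, inv_col h2 hiso hg, val]; ring
        by_cases hb4 : b = a
        · subst hb4; simp [hb1, hb3, inv_col h2 hiso hg, ha]
        simp [hEo b hb1 hb3 hb4, hb1, hb3]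
      rw [← col_eq', hx, gl_mulVec_mul, gl_mulVec_mul, col_eq', h1, mulVec_add, ← col_eq',
        gl_mulVec_inv_mulVec, mulVec_add, mulVec_smul, mulVec_smul, col_eq', col_eq', he v,
        smul_add, smul_smul]
      congr 3
      rw [← hvz, map_mul]
      linear_combination -((val ζ - 1) * σ (MonG.col g v' z)) * hcn
    have hsum0 : ∀ y, y ≠ k → y ≠ l →
        (MonG.col g v + (h : Matrix ι ι F) *ᵥ MonG.col g v) y = 0 := fun y h1 h3 => by
      rw [Pi.add_apply, happ, if_neg h1, if_neg h3]
      split_ifs with h4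
      · subst h4; ring
      · linear_combination MonG.col g v y * hchar
    have hxz : MonG.col x z z = 1 := by
      rw [hcol, Pi.add_apply, Pi.smul_apply, hsum0 z hkz.symm hlz.symm]; simp
    have hxm : ¬ Mon x := by
      intro hxm
      obtain ⟨z', hz'⟩ := hxm z
      obtain ⟨y, hy, hy'⟩ : ∃ y, y ≠ z ∧ MonG.col x z y ≠ 0 := by
        by_contra hcon
        push Not at hcon
        apply hv
        refine col_smul_inj g (hc v) (c' := (1 : F)) ?_
        rw [← he v, one_smul]
        funext y
        have hy2 : (MonG.col g v + (h : Matrix ι ι F) *ᵥ MonG.col g v) y = 0 := by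
          by_cases h1 : y = k ∨ y = l
          · have hyz : y ≠ z := by rcases h1 with h1 | h1 <;> subst h1 <;> assumption
            have e := hcon y hyz
            rw [hcol, Pi.add_apply, Pi.single_eq_of_ne hyz, zero_add, Pi.smul_apply,
              smul_eq_mul] at e
            refine (mul_eq_zero.1 e).resolve_left (mul_ne_zero (sub_ne_zero.2 hζ1) fun e' => ?_)
            exact hrz v hva (σ.injective (by rw [e', map_zero]))
          · push Not at h1; exact hsum0 y h1.1 h1.2
        rw [Pi.add_apply] at hy2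
        linear_combination hy2 - MonG.col g v y * hchar
      exact hy' (hz' y fun e => by
        subst e
        exact zero_ne_one (α := F) ((hz' z (Ne.symm hy)).symm.trans hxz))
    obtain ⟨y₁, h1, h3, h4⟩ := exists_notMem (by omega) k l z
    obtain ⟨y₂, hy₂⟩ : ∃ y₂, y₂ ∉ ({k, l, z, y₁} : Finset ι) := by
      by_contra hcon
      push Not at hcon
      have := Finset.card_le_card (fun x (_ : x ∈ (Finset.univ : Finset ι)) => hcon x)
      rw [Finset.card_univ] at this
      have := this.trans Finset.card_le_four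
      omega
    simp only [Finset.mem_insert, Finset.mem_singleton, not_or] at hy₂
    have hzero : ∀ y, y ≠ k → y ≠ l → y ≠ z → MonG.col x z y = 0 := fun y h1 h3 h4 => by
      rw [hcol, Pi.add_apply, Pi.smul_apply, hsum0 y h1 h3, Pi.single_eq_of_ne h4]; simp
    exact hy₂.2.2.2 (col_one_zero hne h2 hM hiso hn hq hno hxM hxm
      (hzero y₂ hy₂.1 hy₂.2.1 hy₂.2.2.1) (hzero y₁ h1 h3 h4))
  · -- odd characteristic: every other column moves
    have hall : ∀ b ∈ Finset.univ.erase a, π b ≠ b := fun b hb hbb => by
      have e := congrFun (he b) z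
      rw [hbb, heig b hbb, happ, if_neg hkz.symm, if_neg hlz.symm, if_pos rfl, one_smul] at e
      exact mul_ne_zero hchar (hrz b (Finset.ne_of_mem_erase hb)) (by linear_combination -e)
    have := card_moved_le g hW c hall fun b _ => hmov b
    rw [Finset.card_erase_of_mem (Finset.mem_univ a), Finset.card_univ] at this
    omega

end CfsgLib.ClassicalMax.UDec.SixU
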