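/-
Six coordinates: monomial elements moving a full column to its orthogonal.
-/
import Cfsg.Agent.Lib.ClassicalMax.UnitSixDecomp.Line
set_option autoImplicit false
set_option linter.unusedSectionVars false
set_option maxHeartbeats 1000000

namespace CfsgLib.ClassicalMax.UDec.SixU

open Matrix Cfsg.Geo MonG Unit

variable {ι : Type} [Fintype ι] [DecidableEq ι] {F : Type*} [Field F] [Fintype F] {σ : F ≃+* F}
  {M : Subgroup (GL ι F)}
  (hne : σ ≠ RingEquiv.refl F) (h2 : ∀ a : F, σ (σ a) = a)
  (hM : HasU σ M) (hiso : M ≤ isoOf (stdF (ι := ι) σ)) (hn : Fintype.card ι = 6)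
  (hq : 3 ≤ qq σ) (hno : NoLine M)

/-- The diagonal matrix of norm-one scalars. -/
noncomputable abbrev dgU (d : ι → nOne σ) : GL ι F := mon 1 fun y => (d y : Fˣ)

include hne h2 hM hiso hn hq hno

omit hne h2 hiso hn hq hno [Fintype F] in
lemma mon_mem {π : Equiv.Perm ι} {D : ι → nOne σ}
    (h : (Equiv.Perm.sign π : F) * val (∏ y, D y) = 1) :
    mon π (fun y => (D y : Fˣ)) ∈ M := by
  refine hM _ _ (fun y => (D y).2) ?_
  rw [det_mon, ← h]
  simp [val, SubmonoidClass.coe_finset_prod, Units.coe_prod]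

omit hne h2 hM hiso hn hq hno [Fintype F] in
lemma form_mon (π : Equiv.Perm ι) (D : ι → nOne σ) (x : ι → F) :
    stdF σ ((mon π (fun y => (D y : Fˣ)) : Matrix ι ι F) *ᵥ x) x
      = ∑ y, val (D y) * x y * σ (x (π y)) := by
  rw [stdF, ← Equiv.sum_comp π]
  refine Finset.sum_congr rfl fun y _ => ?_
  rw [mon_mulVec, Equiv.symm_apply_apply]

omit hne hn hq hno [Fintype F] in
lemma conj_entry {g : GL ι F} (hg : g ∈ M) (m : GL ι F) (a : ι) :
    MonG.col (g⁻¹ * m * g) a a = stdF σ ((m : Matrix ι ι F) *ᵥ MonG.col g a) (MonG.col g a) := by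
  have h1 := form_mulVec_left (hiso (M.inv_mem hg))
    ((m : Matrix ι ι F) *ᵥ MonG.col g a) (Pi.single a (1 : F))
  rw [inv_inv, col_eq'] at h1
  rw [← h1, stdF_single, map_one, mul_one, ← col_eq', gl_mulVec_mul, gl_mulVec_mul, col_eq']

variable {g : GL ι F} (hg : g ∈ M) (hgm : ¬ Mon g) {a : ι}
include hg hgm

lemma full (b y : ι) : MonG.col g b y ≠ 0 := fun e =>
  zero_false hne h2 hM hiso hn hq hno hg hgm e

/-- Two monomial elements moving the column to its orthogonal differ by one which does so too. -/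
lemma diff_orth {m : GL ι F} (hm : m ∈ M) {δ : ι → nOne σ} (hδ : dgU δ ∈ M) {y y' : ι}
    (hyy : δ y ≠ δ y')
    (h0 : stdF σ ((m : Matrix ι ι F) *ᵥ MonG.col g a) (MonG.col g a) = 0)
    (h1 : stdF σ (((m * dgU δ : GL ι F) : Matrix ι ι F) *ᵥ MonG.col g a) (MonG.col g a) = 0) :
    ∑ i, val (δ i) * (MonG.col g a i * σ (MonG.col g a i)) = 0 := by
  have mon_of : ∀ n ∈ M, stdF σ ((n : Matrix ι ι F) *ᵥ MonG.col g a) (MonG.col g a) = 0 →
      Mon (g⁻¹ * n * g) := fun n hn' h => by_contra fun hc =>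
    zero_false hne h2 hM hiso hn hq hno (M.mul_mem (M.mul_mem (M.inv_mem hg) hn') hg) hc
      ((conj_entry h2 hM hiso hg n a).trans h)
  have hk : Mon (g⁻¹ * dgU δ * g) := by
    have := Mon_mul (Mon_inv (mon_of m hm h0)) (mon_of _ (M.mul_mem hm hδ) h1)
    simpa [mul_assoc] using this
  obtain ⟨b, hb⟩ := hk a
  set k := g⁻¹ * dgU δ * g with hk'
  have hcol : MonG.col k a = MonG.col k a b • Pi.single b (1 : F) := by
    funext i
    by_cases hi : i = b
    · subst hi; simp
    · simp [hi, MonG.col, hb i hi]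
  have hx : (dgU δ : Matrix ι ι F) *ᵥ MonG.col g a = MonG.col k a b • MonG.col g b := by
    have e : (g : Matrix ι ι F) *ᵥ MonG.col k a = (dgU δ : Matrix ι ι F) *ᵥ MonG.col g a := by
      rw [← col_eq', ← gl_mulVec_mul, hk', show g * (g⁻¹ * dgU δ * g) = dgU δ * g by group,
        gl_mulVec_mul, col_eq']
    rw [← e, hcol, mulVec_smul, col_eq']
    simp
  by_cases hba : b = a
  · rw [hba] at hx
    have e : ∀ i, val (δ i) = MonG.col k a a := fun i => by
      have h := congrFun hx i
      rw [dg_mulVec, Pi.smul_apply, smul_eq_mul] at h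
      exact mul_right_cancel₀ (full hne h2 hM hiso hn hq hno hg hgm a i) h
    exact absurd (val_injective ((e y).trans (e y').symm)) hyy
  · have h := congrArg (fun v => stdF σ v (MonG.col g a)) hx
    simp only [(isU hne h2).smul_left, col_orth hiso hg hba, mul_zero] at h
    rw [form_mon] at h
    rw [← h]
    exact Finset.sum_congr rfl fun i _ => by simp only [Equiv.Perm.one_apply]; ring

omit hne hM hn hq hno hgm [Fintype F] in
lemma sum_weights : ∑ i, MonG.col g a i * σ (MonG.col g a i) = 1 := col_norm hiso hg a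

/-- Three blocks of two coordinates, each orthogonal after phases. -/
lemma blocks_false (e : ι ≃ Fin 3 × Fin 2) (τ : Fin 3 → Equiv.Perm (Fin 2)) (r : Fin 3 → nOne σ)
    (hblock : ∀ i, MonG.col g a (e.symm (i, 0)) * σ (MonG.col g a (e.symm (i, τ i 0)))
      + val (r i) * MonG.col g a (e.symm (i, 1)) * σ (MonG.col g a (e.symm (i, τ i 1))) = 0)
    {ε : nOne σ} (hε : val ε = ∏ i, ((Equiv.Perm.sign (τ i) : ℤ) : F))
    {s : nOne σ} (hs : s * s * (r 0 * r 1 * r 2) * ε = 1) : False := by
  classical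
  set x := MonG.col g a with hx
  let π : Equiv.Perm ι := (e.trans (Equiv.prodCongrRight τ)).trans e.symm
  let D : ι → nOne σ := fun y => ![s, 1, 1] (e y).1 * ![1, r (e y).1] (e y).2
  have hπ : ∀ i l, π (e.symm (i, l)) = e.symm (i, τ i l) := fun i l => by simp [π]
  have hsign : (Equiv.Perm.sign π : F) = ∏ i, ((Equiv.Perm.sign (τ i) : ℤ) : F) := by
    rw [show π = (e.trans (Equiv.prodCongrRight τ)).trans e.symm from rfl,
      Equiv.Perm.sign_trans_trans_symm, Equiv.Perm.sign_prodCongrRight]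
    simp [Units.coe_prod]
  have hprod : ∏ y, D y = s * s * (r 0 * r 1 * r 2) := by
    rw [← Equiv.prod_comp e.symm, Fintype.prod_prod_type]
    simp [D, Fin.prod_univ_three, Fin.prod_univ_two]
    ac_rfl
  have hm : mon π (fun y => (D y : Fˣ)) ∈ M := by
    refine mon_mem hM ?_
    rw [hsign, ← hε, hprod]
    have h := congrArg (val (σ := σ)) hs
    simp only [val, Subgroup.coe_mul, Units.val_mul, Subgroup.coe_one, Units.val_one] at h ⊢
    linear_combination h
  have orth : ∀ T : Fin 3 → nOne σ,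
      ∑ y, val (D y * T (e y).1) * x y * σ (x (π y)) = 0 := by
    intro T
    rw [← Equiv.sum_comp e.symm, Fintype.sum_prod_type]
    refine Finset.sum_eq_zero fun i _ => ?_
    rw [Fin.sum_univ_two, hπ, hπ]
    simp only [D, Equiv.apply_symm_apply, Matrix.cons_val_zero, Matrix.cons_val_one]
    have h := hblock i
    simp only [val, Subgroup.coe_mul, Units.val_mul, Subgroup.coe_one, Units.val_one] at h ⊢
    linear_combination (((![s, 1, 1] i : nOne σ) : Fˣ) : F) * ((T i : Fˣ) : F) * h
  set S : Fin 3 → F := fun i => ∑ l, x (e.symm (i, l)) * σ (x (e.symm (i, l))) with hS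
  have htot : S 0 + S 1 + S 2 = 1 := by
    rw [← sum_weights h2 hiso hg (a := a), ← Equiv.sum_comp e.symm, Fintype.sum_prod_type,
      Fin.sum_univ_three]
  have hlin : ∀ t : nOne σ, t ≠ 1 → S 0 + val t * S 1 + (val t)⁻¹ * S 2 = 0 := by
    intro t ht
    let T : Fin 3 → nOne σ := ![1, t, t⁻¹]
    have hδ : dgU (fun y => T (e y).1) ∈ M := by
      refine mon_mem hM ?_
      rw [← Equiv.prod_comp e.symm, Fintype.prod_prod_type]
      have := val_ne_zero t
      simp [T, Fin.prod_univ_three, val]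
    have h := diff_orth hne h2 hM hiso hn hq hno hg hgm (a := a) hm hδ
      (y := e.symm (1, 0)) (y' := e.symm (0, 0)) (by simpa [T] using ht) ?_ ?_
    · rw [← Equiv.sum_comp e.symm, Fintype.sum_prod_type, Fin.sum_univ_three] at h
      simp only [Equiv.apply_symm_apply, ← Finset.mul_sum, T, Matrix.cons_val_zero,
        Matrix.cons_val_one, Matrix.cons_val] at h
      simp only [hS, hx]
      simp [val] at h ⊢
      linear_combination h
    · rw [form_mon]
      have := orth fun _ => 1
      simpa using this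
    · rw [← orth T, gl_mulVec_mul, stdF, ← Equiv.sum_comp π]
      exact Finset.sum_congr rfl fun y _ => by simp [mon_mulVec, val, hx, Equiv.Perm.one_def, mul_assoc]
  have h4 := four_le_card hne h2 hq
  obtain ⟨U, hU, hUc⟩ := Finset.exists_subset_card_eq (s := (Finset.univ : Finset (nOne σ)).erase 1)
    (n := 3) (by rw [Finset.card_erase_of_mem (Finset.mem_univ _), Finset.card_univ]; omega)
  obtain ⟨t₁, t₂, t₃, h12, h13, h23, rfl⟩ := Finset.card_eq_three.1 hUc
  have ht : ∀ t ∈ ({t₁, t₂, t₃} : Finset (nOne σ)),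
      val t * val t * S 1 + val t * S 0 + S 2 = 0 := fun t ht => by
    have h := hlin t (Finset.ne_of_mem_erase (hU ht))
    have := val_ne_zero t
    field_simp at h
    linear_combination h
  have e1 := ht t₁ (by simp)
  have e2 := ht t₂ (by simp)
  have e3 := ht t₃ (by simp)
  have v : ∀ {t t' : nOne σ}, t ≠ t' → val t - val t' ≠ 0 := fun h h' =>
    h (val_injective (sub_eq_zero.1 h'))
  have f12 : (val t₁ + val t₂) * S 1 + S 0 = 0 :=
    mul_left_cancel₀ (v h12) (by linear_combination e1 - e2)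
  have f13 : (val t₁ + val t₃) * S 1 + S 0 = 0 :=
    mul_left_cancel₀ (v h13) (by linear_combination e1 - e3)
  have hS1 : S 1 = 0 := mul_left_cancel₀ (v h23) (by linear_combination f12 - f13)
  rw [hS1, mul_zero, zero_add] at f12
  rw [hS1, f12] at e1
  simp only [mul_zero, zero_add] at e1
  rw [hS1, f12, e1] at htot
  simp at htot

/-- One pair and four fixed coordinates. -/
lemma pair_four_false (e : ι ≃ Fin 2 ⊕ Fin 4) (d : Fin 4 → nOne σ)
    (hd : ∑ l, val (d l) * (MonG.col g a (e.symm (Sum.inr l)) * σ (MonG.col g a (e.symm (Sum.inr l)))) = 0)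
    {r : nOne σ}
    (hr : MonG.col g a (e.symm (Sum.inl 0)) * σ (MonG.col g a (e.symm (Sum.inl 1)))
      + val r * MonG.col g a (e.symm (Sum.inl 1)) * σ (MonG.col g a (e.symm (Sum.inl 0))) = 0)
    {m₁ : nOne σ} (hm₁ : val m₁ = -1)
    {s : nOne σ} (hs : s * s * r * (∏ l, d l) * m₁ = 1) {w : nOne σ} (hw : w ^ 6 ≠ 1) : False := by
  classical
  set x := MonG.col g a with hx
  let π : Equiv.Perm ι :=
    (e.trans (Equiv.sumCongr (Equiv.swap 0 1) (Equiv.refl (Fin 4)))).trans e.symm
  let D : ι → nOne σ := fun y => Sum.elim ![s, s * r] d (e y)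
  have hsign : (Equiv.Perm.sign π : F) = -1 := by
    rw [show π = (e.trans (Equiv.sumCongr (Equiv.swap 0 1) (Equiv.refl (Fin 4)))).trans e.symm from rfl,
      Equiv.Perm.sign_trans_trans_symm, Equiv.Perm.sign_sumCongr,
      Equiv.Perm.sign_swap (by decide)]
    simp
  have hm : mon π (fun y => (D y : Fˣ)) ∈ M := by
    refine mon_mem hM ?_
    rw [hsign, ← Equiv.prod_comp e.symm, Fintype.prod_sum_type]
    have h := congrArg (val (σ := σ)) hs
    simp [D, Fin.prod_univ_two, val] at h hm₁ ⊢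
    simp [hm₁] at h
    linear_combination h
  have orth : ∀ u v : nOne σ,
      ∑ y, val (D y * Sum.elim (fun _ => u) (fun _ => v) (e y)) * x y * σ (x (π y)) = 0 := by
    intro u v
    rw [← Equiv.sum_comp e.symm, Fintype.sum_sum_type, Fin.sum_univ_two]
    have hd' : ∑ l, val (d l * v) * x (e.symm (Sum.inr l)) * σ (x (e.symm (Sum.inr l))) = 0 := by
      rw [← mul_zero (val v), ← hd, Finset.mul_sum]
      exact Finset.sum_congr rfl fun l _ => by simp [val]; ring
    have hπ0 : π (e.symm (Sum.inl 0)) = e.symm (Sum.inl 1) := by simp [π]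
    have hπ1 : π (e.symm (Sum.inl 1)) = e.symm (Sum.inl 0) := by simp [π]
    have hπr : ∀ l, π (e.symm (Sum.inr l)) = e.symm (Sum.inr l) := fun l => by
      simp [π, Equiv.swap_apply_of_ne_of_ne]
    simp only [hπ0, hπ1, hπr]
    simp [D, val] at hr hd' ⊢
    rw [hd', add_zero]
    linear_combination ((s : Fˣ) : F) * ((u : Fˣ) : F) * hr
  set S := x (e.symm (Sum.inl 0)) * σ (x (e.symm (Sum.inl 0)))
    + x (e.symm (Sum.inl 1)) * σ (x (e.symm (Sum.inl 1))) with hS
  have hrest : ∑ l, x (e.symm (Sum.inr l)) * σ (x (e.symm (Sum.inr l))) = 1 - S := by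
    rw [eq_sub_iff_add_eq, hS, ← sum_weights h2 hiso hg (a := a),
      ← Equiv.sum_comp e.symm (fun i => MonG.col g a i * σ (MonG.col g a i)), Fintype.sum_sum_type,
      Fin.sum_univ_two, add_comm]
  have key : ∀ w : nOne σ, w ^ 6 ≠ 1 → S + val w ^ 3 * (1 - S) = 0 := by
    intro w hw
    have hδ : dgU (fun y => Sum.elim (fun _ : Fin 2 => w⁻¹ * w⁻¹) (fun _ : Fin 4 => w) (e y)) ∈ M := by
      refine mon_mem hM ?_
      rw [← Equiv.prod_comp e.symm, Fintype.prod_sum_type]
      have := val_ne_zero w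
      simp [val]
      field_simp
    have h := diff_orth hne h2 hM hiso hn hq hno hg hgm (a := a) hm hδ
      (y := e.symm (Sum.inl 0)) (y' := e.symm (Sum.inr 0)) ?_ ?_ ?_
    · rw [← Equiv.sum_comp e.symm, Fintype.sum_sum_type, Fin.sum_univ_two] at h
      simp only [Equiv.apply_symm_apply, Sum.elim_inl, Sum.elim_inr, ← Finset.mul_sum] at h
      rw [← hx, hrest, ← mul_add, ← hS] at h
      have := val_ne_zero w
      simp [val] at h this ⊢
      field_simp at h
      linear_combination h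
    · simp only [Equiv.apply_symm_apply, Sum.elim_inl, Sum.elim_inr]
      intro he
      apply hw
      have h3 : w ^ 3 = 1 := by
        rw [pow_succ, pow_two]
        calc w * w * w = w * w * (w⁻¹ * w⁻¹) := by rw [he]
          _ = 1 := by group
      rw [show 6 = 3 * 2 from rfl, pow_mul, h3, one_pow]
    · rw [form_mon]
      have := orth 1 1
      simpa [D, val] using this
    · rw [← orth (w⁻¹ * w⁻¹) w, gl_mulVec_mul, stdF, ← Equiv.sum_comp π]
      exact Finset.sum_congr rfl fun y _ => by simp [mon_mulVec, val, hx, Equiv.Perm.one_def, mul_assoc]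
  have k1 := key w hw
  have k2 := key w⁻¹ (by rwa [ne_eq, inv_pow, inv_eq_one])
  have hwv := val_ne_zero w
  have h6 : val w ^ 6 ≠ 1 := fun e' => hw (val_injective (by simpa [val] using e'))
  simp [val] at k1 k2 hwv h6
  field_simp at k2
  have hS0 : S = 0 := (mul_eq_zero.1 (by linear_combination k1 - ((w : Fˣ) : F) ^ 3 * k2 :
    S * (1 - ((w : Fˣ) : F) ^ 6) = 0)).resolve_right (sub_ne_zero.2 (Ne.symm h6))
  rw [hS0] at k1
  simp [hwv] at k1

end CfsgLib.ClassicalMax.UDec.SixU
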