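/-
Unitary overgroups of the monomial group in dimension at least four with an element fixing a
coordinate line contain all transvections.
-/
import Cfsg.Agent.Lib.ClassicalMax.UDecompMon
set_option autoImplicit false
set_option linter.unusedSectionVars false
set_option maxHeartbeats 1000000

namespace CfsgLib.ClassicalMax.UDec.LineGen

open Matrix Cfsg.Geo MonG Unit

variable {ι : Type} [Fintype ι] [DecidableEq ι] {F : Type*} [Field F] [Fintype F] [DecidableEq F]
  {σ : F ≃+* F} {M : Subgroup (GL ι F)}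
  (hne : σ ≠ RingEquiv.refl F) (h2 : ∀ a : F, σ (σ a) = a)
  (hM : HasU σ M) (hiso : M ≤ isoOf (stdF (ι := ι) σ)) (hn : 4 ≤ Fintype.card ι)

include hne h2 hM hiso hn

lemma two_mem {i₀ j₀ : ι} (hij₀ : i₀ ≠ j₀) {p₀ r₀ : F} (hp₀ : p₀ ≠ 0)
    (h₀ : (Pi.single i₀ p₀ + Pi.single j₀ r₀ : ι → F) ∈ uSet (isU hne h2) M)
    {i j : ι} (hij : i ≠ j) {p r : F} (hpr : p * σ p + r * σ r = 0) :
    (Pi.single i p + Pi.single j r : ι → F) ∈ uSet (isU hne h2) M := by
  classical
  have hf := isU (ι := ι) hne h2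
  have hsp : σ p₀ ≠ 0 := fun e => hp₀ (σ.injective (by rw [e, map_zero]))
  have hpr₀ : p₀ * σ p₀ + r₀ * σ r₀ = 0 := by
    have := h₀.1
    rw [hf.add_left, add_right hf, add_right hf, single_stdF, single_stdF, single_stdF,
      single_stdF] at this
    simpa [hij₀, hij₀.symm] using this
  obtain ⟨l, hl⟩ := exists_norm_eq hne h2 (s := (p * σ p) / (p₀ * σ p₀))
    (by rw [map_div₀, map_mul, map_mul, h2, h2, mul_comm p, mul_comm p₀])
  have hl' : l * σ l * (p₀ * σ p₀) = p * σ p := by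
    rw [hl, div_mul_cancel₀ _ (mul_ne_zero hp₀ hsp)]
  obtain ⟨k, hki, hkj, -⟩ := exists_notMem (by omega) i₀ j₀ j₀
  obtain ⟨π, hπi, hπj⟩ : ∃ π : Equiv.Perm ι, π i₀ = i ∧ π j₀ = j := by
    refine ⟨Equiv.swap (Equiv.swap i₀ i j₀) j * Equiv.swap i₀ i, ?_, by simp⟩
    rw [Equiv.Perm.mul_apply, Equiv.swap_apply_left, Equiv.swap_apply_of_ne_of_ne _ hij]
    intro e
    exact hij₀ ((Equiv.swap i₀ i).injective (by rw [Equiv.swap_apply_left]; exact e))
  refine exists_image hne h2 hM hiso (uSet_smul hf l h₀) π (k := k)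
    (by simp [hki, hkj]) fun y => ?_
  by_cases hyi : y = i₀
  · subst hyi
    simp [hπi, hij, hij₀]
    linear_combination -hl'
  by_cases hyj : y = j₀
  · subst hyj
    simp [hπj, hij.symm, hij₀.symm]
    linear_combination hpr + hl' - (l * σ l) * hpr₀
  have h1 : π y ≠ i := fun e => hyi (π.injective (e.trans hπi.symm))
  have h3 : π y ≠ j := fun e => hyj (π.injective (e.trans hπj.symm))
  simp [hyi, hyj, h1, h3]

/-- One step of the induction: a pair of coordinates whose norms do not cancel. -/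
lemma pair_step {v : ι → F} {i j k : ι} (hij : i ≠ j) (hki : k ≠ i) (hkj : k ≠ j)
    (hvi : v i ≠ 0) (hvj : v j ≠ 0) (hq : qq σ ≠ 2) (hv : stdF σ v v = 0)
    (hs : v i * σ (v i) + v j * σ (v j) ≠ 0)
    (htwo : ∀ i j : ι, i ≠ j → ∀ p r : F, p * σ p + r * σ r = 0 →
      (Pi.single i p + Pi.single j r : ι → F) ∈ uSet (isU hne h2) M)
    (ih : ∀ w : ι → F, stdF σ w w = 0 → w j = 0 → (∀ y, v y = 0 → w y = 0) →
      w ∈ uSet (isU hne h2) M) : v ∈ uSet (isU hne h2) M := by
  classical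
  have hf := isU (ι := ι) hne h2
  have hσ0 : ∀ x : F, x ≠ 0 → σ x ≠ 0 := fun x hx e => hx (σ.injective (by rw [e, map_zero]))
  obtain ⟨β, hβ⟩ := exists_norm_eq hne h2 (s := (-1 : F)) (by simp)
  have hβ0 : β ≠ 0 := fun e => by rw [e, zero_mul] at hβ; exact one_ne_zero (neg_eq_zero.1 hβ.symm)
  set x : ι → F := Pi.single i 1 + Pi.single j β with hx
  have hxT : x ∈ uSet (isU hne h2) M := htwo i j hij 1 β (by rw [hβ]; simp)
  have hxf : ∀ w : ι → F, stdF σ w x = w i + w j * σ β := fun w => by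
    rw [hx, add_right hf, stdF_single, stdF_single, map_one, mul_one]
  obtain ⟨c₁, hc₁0, hc₁1, hc₁⟩ := exists_trace_zero_avoid hne h2 hq (-1)
  have hc1 : 1 + c₁ ≠ 0 := fun e => hc₁1 (eq_neg_of_add_eq_zero_right e)
  -- first step
  have hh : ∀ ζ : nOne σ, ∃ m ∈ M, ∀ w : ι → F, ∀ y,
      (y = i → ((m : Matrix ι ι F) *ᵥ w) y = w i) ∧
      (y = j → ((m : Matrix ι ι F) *ᵥ w) y = val ζ * w j) ∧
      (w y = 0 → ((m : Matrix ι ι F) *ᵥ w) y = 0) := fun ζ => by
    obtain ⟨D, hD, -, hD'⟩ := exists_mon hM 1 k (Function.update 1 j ζ)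
    refine ⟨_, hD, fun w y => ⟨?_, ?_, fun h => by rw [dg_mulVec]; simp [h]⟩⟩
    · rintro rfl; rw [dg_mulVec]; simp only; rw [hD' y hki.symm]; simp [hij, val]
    · rintro rfl; rw [dg_mulVec]; simp only; rw [hD' y hkj.symm]; simp [val]
  choose H hH hHap using hh
  set s := v i * σ (v i) + v j * σ (v j) with hsdef
  have hsfix : σ s = s := by rw [hsdef, map_add, map_mul, map_mul, h2, h2]; ring
  set K := c₁ * σ β * v j * σ ((1 + c₁) * v i) with hK
  have hK0 : K ≠ 0 := mul_ne_zero (mul_ne_zero (mul_ne_zero hc₁0 (hσ0 _ hβ0)) hvj)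
    (hσ0 _ (mul_ne_zero hc1 hvi))
  set w₁ : nOne σ → F := fun ζ => (1 + c₁) * v i + c₁ * σ β * (val ζ * v j)
  set A := Finset.univ.image fun ζ : nOne σ => w₁ ζ * σ (w₁ ζ)
  have hA : qq σ + 1 ≤ 2 * A.card := by
    refine (qq_add_one_le hne h2).trans ?_
    rw [Nat.card_eq_fintype_card, ← Finset.card_univ]
    refine Finset.card_le_mul_card_image _ 2 fun t _ => ?_
    refine (Finset.card_le_card fun ζ hζ => ?_).trans (trace_fibre h2
      (t := t - ((1 + c₁) * v i * σ ((1 + c₁) * v i)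
        + c₁ * σ β * v j * σ (c₁ * σ β * v j))) hK0)
    simp only [Finset.mem_filter, Finset.mem_univ, true_and] at hζ ⊢
    rw [← hζ]
    simp only [K, w₁, map_add, map_mul, h2, map_one]
    linear_combination (-(c₁ * σ β * v j) * (σ c₁ * β * σ (v j))) * val_norm ζ
  set Z := Finset.univ.filter fun c : F => σ c = -c
  set B := Z.image fun c => (1 + c) * σ (1 + c) * s
  have hfix : (Finset.univ.filter fun x : F => σ x = x).card = qq σ := by
    rw [qq, Nat.card_eq_fintype_card, Fintype.card_subtype]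
    exact congrArg Finset.card (Finset.filter_congr fun x _ => mem_fixedField.symm)
  have hB : qq σ ≤ 2 * B.card := by
    refine le_trans ?_ (Finset.card_le_mul_card_image Z 2 fun t ht => ?_)
    · obtain ⟨τ, hτ0, hτ⟩ := exists_trace_zero hne h2
      rw [← hfix]
      refine Finset.card_le_card_of_injOn (fun x => x * τ) (fun x hx => ?_)
        fun x _ y _ e => mul_right_cancel₀ hτ0 e
      simp only [Finset.coe_filter, Finset.mem_univ, true_and, Set.mem_setOf_eq, Z] at hx ⊢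
      rw [map_mul, hx, hτ, mul_neg]
    · obtain ⟨c₀, hc₀, rfl⟩ := Finset.mem_image.1 ht
      refine (Finset.card_le_card fun c hc => ?_).trans (Finset.card_le_two (a := c₀) (b := -c₀))
      simp only [Z, Finset.mem_filter, Finset.mem_univ, true_and] at hc hc₀
      have h1 := mul_right_cancel₀ hs hc.2
      rw [map_add, map_add, map_one, hc.1, hc₀] at h1
      have h3 : (c - c₀) * (c + c₀) = 0 := by linear_combination -h1
      rw [Finset.mem_insert, Finset.mem_singleton]
      rcases mul_eq_zero.1 h3 with h | h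
      · exact Or.inl (sub_eq_zero.1 h)
      · exact Or.inr (eq_neg_of_add_eq_zero_left h)
  obtain ⟨t, ht⟩ : (A ∩ B).Nonempty := by
    refine Finset.inter_nonempty_of_card_lt_card_add_card
      (s := Finset.univ.filter fun x : F => σ x = x) ?_ ?_ (by rw [hfix]; omega)
    · intro t ht
      obtain ⟨ζ, -, rfl⟩ := Finset.mem_image.1 ht
      refine Finset.mem_filter.2 ⟨Finset.mem_univ _, ?_⟩
      rw [map_mul, h2, mul_comm]
    · intro t ht
      obtain ⟨c, -, rfl⟩ := Finset.mem_image.1 ht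
      refine Finset.mem_filter.2 ⟨Finset.mem_univ _, ?_⟩
      rw [map_mul, map_mul, h2, hsfix]; ring
  obtain ⟨htA, htB⟩ := Finset.mem_inter.1 ht
  obtain ⟨ζ, -, rfl⟩ := Finset.mem_image.1 htA
  obtain ⟨c, hcZ, hmatch⟩ := Finset.mem_image.1 htB
  have hc : σ c = -c := (Finset.mem_filter.1 hcZ).2
  obtain ⟨u, hu⟩ := exists_norm_eq hne h2 hsfix
  set m₁ := uTv hf x c₁ * H ζ with hm₁
  have hm₁M : m₁ ∈ M := M.mul_mem (hxT.2 c₁ hc₁) (hH ζ)
  set w := (m₁ : Matrix ι ι F) *ᵥ v with hw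
  set L := v i + val ζ * v j * σ β with hL
  have hwy : ∀ y, w y = ((H ζ : Matrix ι ι F) *ᵥ v) y + c₁ * L * x y := fun y => by
    rw [hw, hm₁, gl_mulVec_mul, uTv_mulVec hf hxT.1, hxf, (hHap ζ v i).1 rfl, (hHap ζ v j).2.1 rfl]
    rfl
  have hwi : w i = w₁ ζ := by
    rw [hwy, (hHap ζ v i).1 rfl, hx]; simp [hij, w₁, L]; ring
  have hwj : w j = val ζ * v j + c₁ * L * β := by
    rw [hwy, (hHap ζ v j).2.1 rfl, hx]; simp [hij.symm]
  have hwsum : w i * σ (w i) + w j * σ (w j) = s := by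
    rw [hwy, (hHap ζ v i).1 rfl, hwj, hx, hsdef, hL]
    simp [hij, map_add, map_mul, h2, hc₁]
    linear_combination (v j * σ (v j)) * val_norm ζ
      + (-(c₁ * c₁) * (v i + val ζ * v j * σ β) * (σ (v i) + σ (val ζ) * σ (v j) * β)) * hβ
  set yi := (1 + c) * u
  set yj := c * β * u
  have hni : w i * σ (w i) = yi * σ yi := by
    rw [hwi, ← hmatch]
    simp only [yi, map_mul]
    linear_combination -((1 + c) * σ (1 + c)) * hu
  have hnj : w j * σ (w j) = yj * σ yj := by
    have e : w j * σ (w j) = s - w i * σ (w i) := by linear_combination hwsum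
    rw [e, hni]
    simp only [yi, yj, map_mul, map_add, map_one, hc]
    linear_combination (c * c * u * σ u) * hβ - hu
  obtain ⟨φ, hφ⟩ := exists_phase (σ := σ) hni
  obtain ⟨ψ, hψ⟩ := exists_phase (σ := σ) hnj
  obtain ⟨D, hD, -, hD'⟩ := exists_mon hM 1 k (Function.update (Function.update 1 i φ) j ψ)
  have hnc : σ (-c) = -(-c) := by rw [map_neg, hc]
  set m₂ := uTv hf x (-c) * mon 1 D with hm₂
  have hm : m₂ * m₁ ∈ M := M.mul_mem (M.mul_mem (hxT.2 _ hnc) hD) hm₁M
  set z := ((m₂ * m₁ : GL ι F) : Matrix ι ι F) *ᵥ v with hz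
  have hzy : ∀ y, z y = (D y : F) * w y + -c * (yi + yj * σ β) * x y := fun y => by
    rw [hz, gl_mulVec_mul, ← hw, hm₂, gl_mulVec_mul, uTv_mulVec hf hxT.1, hxf, dg_mulVec]
    simp only [Pi.add_apply, Pi.smul_apply, smul_eq_mul]
    rw [hD' i hki.symm, hD' j hkj.symm]
    simp [hij, ← hφ, ← hψ]
  have hzj : z j = 0 := by
    rw [hzy, hD' j hkj.symm, hx]
    simp [hij.symm, hψ, yi, yj]
    linear_combination (-(c * c * β * u)) * hβ
  have hzT : z ∈ uSet (isU hne h2) M := by
    refine ih z ((mem_isoOf.1 (hiso hm) v v).trans hv) hzj fun y hy => ?_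
    have hyi : y ≠ i := fun e => hvi (e ▸ hy)
    have hyj : y ≠ j := fun e => hvj (e ▸ hy)
    rw [hzy, hwy, (hHap ζ v y).2.2 hy, hx]
    simp [hyi, hyj]
  have h5 := uSet_mulVec hf (M.inv_mem hm) (hiso (M.inv_mem hm)) hzT
  rwa [hz, gl_inv_mulVec_mulVec] at h5



omit hM hiso hn in
/-- Half of the fixed field occurs as non-trivial norms on a translated circle. -/
lemma half_image {a b : F} (ha : σ a = a) (hb : σ b = b) (ha0 : a ≠ 0) (hb0 : b ≠ 0) :
    qq σ ≤ 2 * (((Finset.univ : Finset (nOne σ)).erase 1).image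
      fun d => (a + b * val d) * σ (a + b * val d)).card ∧
    ∀ x ∈ ((Finset.univ : Finset (nOne σ)).erase 1).image
      (fun d => (a + b * val d) * σ (a + b * val d)),
        σ x = x ∧ x ≠ (a + b) * (a + b) := by
  refine ⟨?_, fun x hx => ?_⟩
  · have hU : qq σ ≤ ((Finset.univ : Finset (nOne σ)).erase 1).card := by
      rw [Finset.card_erase_of_mem (Finset.mem_univ _), Finset.card_univ, ← Nat.card_eq_fintype_card]
      have := qq_add_one_le hne h2
      omega
    refine hU.trans (Finset.card_le_mul_card_image _ 2 fun t _ => ?_)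
    refine (Finset.card_le_card fun d hd => ?_).trans
      (trace_fibre h2 (t := t - a * a - b * b) (mul_ne_zero ha0 hb0))
    simp only [Finset.mem_filter, Finset.mem_univ, true_and] at hd ⊢
    rw [← hd.2]
    simp only [map_add, map_mul, ha, hb]
    linear_combination (-(b * b)) * val_norm d
  · obtain ⟨d, hd, rfl⟩ := Finset.mem_image.1 hx
    refine ⟨by rw [map_mul, h2, mul_comm], fun e => Finset.ne_of_mem_erase hd (val_injective ?_)⟩
    rw [map_add, map_mul, ha, hb] at e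
    have h1 : a * b * ((val d - 1) * (val d - 1)) = 0 := by
      linear_combination val d * e - (a * b + b * b * val d) * val_norm d
    have h3 := (mul_eq_zero.1 h1).resolve_left (mul_ne_zero ha0 hb0)
    simpa [val] using sub_eq_zero.1 (mul_self_eq_zero.1 h3)

omit hM hiso hn in
/-- Non-trivial phases keeping the sum of three norms. -/
lemma exists_phases {n₁ n₂ n₃ : F} (e₁ : σ n₁ = n₁) (e₂ : σ n₂ = n₂) (e₃ : σ n₃ = n₃)
    (f₁ : n₁ ≠ 0) (f₂ : n₂ ≠ 0) (f₃ : n₃ ≠ 0) {s : F} (hs : n₁ + n₂ + n₃ = s) :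
    ∃ d₁ d₂ d₃ : nOne σ, val d₁ ≠ 1 ∧
      (val d₁ - 1) * n₁ + (val d₂ - 1) * n₂ + (val d₃ - 1) * n₃ = 0 := by
  classical
  by_cases hs0 : s = 0
  · obtain ⟨w, hw, -⟩ := exists_val_ne hne h2 1 1
    exact ⟨w, w, w, hw, by linear_combination (val w - 1) * hs + (val w - 1) * hs0⟩
  have es : σ s = s := by rw [← hs, map_add, map_add, e₁, e₂, e₃]
  obtain ⟨hA, hA'⟩ := half_image hne h2 es (b := -n₁) (by rw [map_neg, e₁]) hs0
    (neg_ne_zero.2 f₁)
  obtain ⟨hB, hB'⟩ := half_image hne h2 e₂ e₃ f₂ f₃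
  set A := ((Finset.univ : Finset (nOne σ)).erase 1).image
      fun d => (s + -n₁ * val d) * σ (s + -n₁ * val d)
  set B := ((Finset.univ : Finset (nOne σ)).erase 1).image
      fun d => (n₂ + n₃ * val d) * σ (n₂ + n₃ * val d)
  have hfix : (Finset.univ.filter fun x : F => σ x = x).card = qq σ := by
    rw [qq, Nat.card_eq_fintype_card, Fintype.card_subtype]
    exact congrArg Finset.card (Finset.filter_congr fun x _ => mem_fixedField.symm)
  set v₀ := (s + -n₁) * (s + -n₁)
  have hv₀ : σ v₀ = v₀ := by simp only [v₀, map_mul, map_add, map_neg, es, e₁]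
  obtain ⟨x, hx⟩ : (A ∩ B).Nonempty := by
    refine Finset.inter_nonempty_of_card_lt_card_add_card
      (s := (Finset.univ.filter fun x : F => σ x = x).erase v₀) (fun x hx => ?_) (fun x hx => ?_) ?_
    · exact Finset.mem_erase.2 ⟨(hA' x hx).2, Finset.mem_filter.2 ⟨Finset.mem_univ _, (hA' x hx).1⟩⟩
    · refine Finset.mem_erase.2 ⟨fun e => (hB' x hx).2 ?_,
        Finset.mem_filter.2 ⟨Finset.mem_univ _, (hB' x hx).1⟩⟩
      rw [e, show n₂ + n₃ = s + -n₁ by linear_combination hs]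
    · have := two_le_qq hne h2
      rw [Finset.card_erase_of_mem (by simpa using hv₀ :
        v₀ ∈ Finset.univ.filter fun x : F => σ x = x), hfix]
      omega
  obtain ⟨hxA, hxB⟩ := Finset.mem_inter.1 hx
  obtain ⟨d, hd, hdx⟩ := Finset.mem_image.1 hxA
  obtain ⟨δ, -, hδx⟩ := Finset.mem_image.1 hxB
  obtain ⟨φ, hφ⟩ := exists_phase (σ := σ) (hδx.trans hdx.symm)
  refine ⟨d, φ, φ * δ, fun e => Finset.ne_of_mem_erase hd (val_injective (by simpa [val] using e)), ?_⟩
  have : val (φ * δ) = val φ * val δ := by simp [val]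
  rw [this]
  linear_combination hφ - hs

/-- A line fixer gives a member of `InR` with three non-zero coordinates. -/
lemma exists_three {k : GL ι F} (hk : k ∈ M) (hkm : ¬ Mon k) {a : ι}
    (ha : ∀ y, y ≠ a → (k : Matrix ι ι F) y a = 0) :
    ∃ u, InR σ M a u ∧ ∃ i j l, i ≠ j ∧ i ≠ l ∧ j ≠ l ∧ u i ≠ 0 ∧ u j ≠ 0 ∧ u l ≠ 0 := by
  classical
  obtain ⟨b, hb, i, j, hij, hi, hj⟩ : ∃ b, b ≠ a ∧ ∃ y y', y ≠ y' ∧ MonG.col k b y ≠ 0 ∧
      MonG.col k b y' ≠ 0 := by
    by_contra hcon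
    push Not at hcon
    apply hkm
    intro b
    by_cases hb : b = a
    · exact ⟨a, fun y hy => hb ▸ ha y hy⟩
    obtain ⟨y₀, hy₀⟩ : ∃ y₀, MonG.col k b y₀ ≠ 0 := Function.ne_iff.1 (fun e => by
      have := gl_mulVec_ne_zero k (x := Pi.single b 1) (fun e' => by simpa using congrFun e' b)
      rw [col_eq'] at this
      exact this e)
    exact ⟨y₀, fun y hy => hcon b hb y₀ y (Ne.symm hy) hy₀⟩
  have hu := inR_col hne h2 hM hiso hk hb ha
  set u := MonG.col k b
  have hai : a ≠ i := fun e => hi (e ▸ hu.1)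
  have haj : a ≠ j := fun e => hj (e ▸ hu.1)
  by_cases h3 : ∃ l, l ≠ i ∧ l ≠ j ∧ u l ≠ 0
  · obtain ⟨l, h1, h3', h4⟩ := h3
    exact ⟨u, hu, i, j, l, hij, h1.symm, h3'.symm, hi, hj, h4⟩
  push Not at h3
  obtain ⟨l, hla, hli, hlj⟩ := exists_notMem (by omega) a i j
  have hl : u l = 0 := h3 l hli hlj
  have hu' : InR σ M a (fun y => u (Equiv.swap j l y)) := by
    have := inR_mon hne h2 hM hiso hu (Equiv.swap j l)
      (Equiv.swap_apply_of_ne_of_ne haj hla.symm) (fun _ => 1)
    simpa [val] using this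
  set u' : ι → F := fun y => u (Equiv.swap j l y) with hu'def
  have v1 : u' a = 0 := hu'.1
  have v2 : u' i = u i := by simp [u', Equiv.swap_apply_of_ne_of_ne hij hli.symm]
  have v3 : u' j = 0 := by simp [u', hl]
  have v4 : u' l = u j := by simp [u']
  have hn0 : u i * σ (u i) ≠ 0 := mul_ne_zero hi ((map_ne_zero σ).2 hi)
  obtain ⟨ζ, hζ1, hζ⟩ := exists_val_ne hne h2 1 (1 - (u i * σ (u i))⁻¹)
  obtain ⟨P, hP, hPx⟩ := hu.2.2 ζ
  have hPa : (P : Matrix ι ι F) *ᵥ Pi.single a 1 = σ (val ζ) • Pi.single a 1 := by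
    rw [hPx, single_stdF, hu.1, map_zero]
    simp only [mul_zero, zero_smul, add_zero, Pi.single_eq_same, mul_one]
    module
  refine ⟨_, inR_conj hne h2 hiso hu' hP hPa, i, j, l, hij, hli.symm, hlj.symm, ?_⟩
  have hf : stdF σ u' u = u i * σ (u i) := by
    rw [stdF, Finset.sum_eq_single i (fun y _ hy => ?_) (by simp)]
    · rw [v2]
    · by_cases hyj : y = j
      · rw [hyj, v3, zero_mul]
      · rw [h3 y hy hyj, map_zero, mul_zero]
  rw [hPx, v1, hf]
  simp only [Pi.add_apply, Pi.smul_apply, smul_eq_mul, mul_zero, zero_mul, add_zero]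
  refine ⟨?_, ?_, ?_⟩
  · rw [v2]
    intro e
    have h1 : u i * (1 + (val ζ - 1) * (u i * σ (u i))) = 0 := by linear_combination e
    refine hζ ?_
    have h4 := (mul_eq_zero.1 h1).resolve_left hi
    rw [eq_sub_iff_add_eq]
    refine mul_right_cancel₀ hn0 ?_
    rw [add_mul, inv_mul_cancel₀ hn0]
    linear_combination h4
  · rw [v3, zero_add]
    exact mul_ne_zero (mul_ne_zero (sub_ne_zero.2 hζ1) hn0) hj
  · rw [v4, hl, mul_zero, add_zero]
    exact hj

/-- All transvections lie in an overgroup with an element fixing a coordinate line. -/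
theorem line_uSet (hq : qq σ ≠ 2) {k : GL ι F} (hk : k ∈ M) (hkm : ¬ Mon k) {a : ι}
    (ha : ∀ y, y ≠ a → (k : Matrix ι ι F) y a = 0) {v : ι → F} (hv : stdF σ v v = 0) :
    v ∈ uSet (isU hne h2) M := by
  classical
  have hf := isU (ι := ι) hne h2
  obtain ⟨u, hu, i, j, l, hij, hil, hjl, hui, huj, hul⟩ := exists_three hne h2 hM hiso hn hk hkm ha
  have hfix : ∀ x : F, σ (x * σ x) = x * σ x := fun x => by rw [map_mul, h2, mul_comm]
  have hnz : ∀ y, u y ≠ 0 → u y * σ (u y) ≠ 0 := fun y hy =>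
    mul_ne_zero hy ((map_ne_zero σ).2 hy)
  obtain ⟨d₁, d₂, d₃, hd₁, hd⟩ := exists_phases hne h2 (hfix (u i)) (hfix (u j)) (hfix (u l))
    (hnz i hui) (hnz j huj) (hnz l hul) rfl
  set d : ι → nOne σ := Function.update (Function.update (Function.update 1 i d₁) j d₂) l d₃
  have hw₀ := centre_mem hne h2 hM hiso hu d (by
    rw [← Finset.sum_subset (Finset.subset_univ ({i, j, l} : Finset ι)) (fun y _ hy => by
        simp only [Finset.mem_insert, Finset.mem_singleton, not_or] at hy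
        simp [d, hy.1, hy.2.1, hy.2.2, val]),
      Finset.sum_insert (by simp [hij, hil]), Finset.sum_pair hjl]
    simp [d, hij, hil, hjl]
    linear_combination hd)
  obtain ⟨i₀, j₀, hij₀, hi₀, hj₀⟩ : ∃ x y : ι, x ≠ y ∧
      (val (d x) - 1) * u x ≠ 0 ∧ (val (d y) - 1) * u y ≠ 0 := by
    have hw1 : (val (d i) - 1) * u i ≠ 0 := by
      refine mul_ne_zero (sub_ne_zero.2 ?_) hui
      simpa [d, hij, hil] using hd₁
    by_contra hcon
    push Not at hcon
    apply hw1
    have h0 := hw₀.1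
    rw [stdF, Finset.sum_eq_single i (fun y _ hy => by
      rw [hcon i y hy.symm hw1, zero_mul]) (by simp)] at h0
    rcases mul_eq_zero.1 h0 with h | h
    · exact h
    · exact σ.injective (by rw [h, map_zero])
  obtain ⟨p₀, r₀, hp₀, -, h₀⟩ := exists_two hne h2 hM hiso hij₀ hw₀ (by simp [hu.1] : (fun y => (val (d y) - 1) * u y) a = 0) hi₀ hj₀
  have htwo : ∀ i j : ι, i ≠ j → ∀ p r : F, p * σ p + r * σ r = 0 →
      (Pi.single i p + Pi.single j r : ι → F) ∈ uSet (isU hne h2) M :=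
    fun i j hij p r h => two_mem hne h2 hM hiso hn hij₀ hp₀ h₀ hij h
  suffices ∀ N, ∀ v : ι → F, (Finset.univ.filter fun y => v y ≠ 0).card = N → stdF σ v v = 0 →
      v ∈ uSet (isU hne h2) M from this _ v rfl hv
  intro N
  induction N using Nat.strong_induction_on with
  | _ N IH =>
  intro v hN' hv
  set S := Finset.univ.filter fun y => v y ≠ 0 with hS
  have hsmall : ∀ w : ι → F, stdF σ w w = 0 → ∀ y₀ ∈ S, w y₀ = 0 →
      (∀ y, v y = 0 → w y = 0) → w ∈ uSet (isU hne h2) M := by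
    intro w hw y₀ hy₀ hwy hsub
    refine IH _ ?_ w rfl hw
    rw [← hN']
    refine Finset.card_lt_card ⟨fun y hy => ?_, fun h => ?_⟩
    · simp only [S, Finset.mem_filter, Finset.mem_univ, true_and] at hy ⊢
      exact fun e => hy (hsub y e)
    · exact (Finset.mem_filter.1 (h hy₀)).2 hwy
  have hSv : ∀ y, y ∈ S ↔ v y ≠ 0 := fun y => by simp [S]
  by_cases hs3 : N ≤ 2
  · obtain ⟨i, j', hij, hrest⟩ : ∃ i j' : ι, i ≠ j' ∧ ∀ y, y ≠ i → y ≠ j' → v y = 0 := by
      obtain ⟨i, hi, -⟩ := exists_notMem (by omega) a a a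
      by_cases h2' : S.card = 2
      · obtain ⟨x, y, hxy, hSxy⟩ := Finset.card_eq_two.1 h2'
        refine ⟨x, y, hxy, fun z h1 h3 => ?_⟩
        by_contra hz
        have := (hSv z).2 hz
        rw [hSxy] at this
        simp [h1, h3] at this
      · have hle : S.card ≤ 1 := by omega
        by_cases h0 : S = ∅
        · exact ⟨a, i, hi.symm, fun y _ _ => by
            by_contra hy
            have := (hSv y).2 hy
            simp [h0] at this⟩
        · obtain ⟨x, hx⟩ := Finset.nonempty_iff_ne_empty.2 h0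
          obtain ⟨x', hx', -⟩ := exists_notMem (by omega) x x x
          refine ⟨x, x', hx'.symm, fun y h1 _ => ?_⟩
          by_contra hy
          exact h1 (Finset.card_le_one.1 hle y ((hSv y).2 hy) x hx)
    have e : v = Pi.single i (v i) + Pi.single j' (v j') := by
      funext y
      by_cases h1 : y = i
      · subst h1; simp [hij]
      by_cases h3 : y = j'
      · subst h3; simp [h1]
      simp [h1, h3, hrest y h1 h3]
    rw [e]
    refine htwo i j' hij _ _ ?_
    rw [stdF, Fintype.sum_eq_add i j' hij fun y hy => by rw [hrest y hy.1 hy.2, zero_mul]] at hv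
    exact hv
  have h3 : 3 ≤ S.card := by omega
  -- larger fields
  have hpair : ∀ (w : ι → F), stdF σ w w = 0 → (∀ y, v y = 0 → w y = 0) →
      ∀ i j k : ι, i ∈ S → j ∈ S → i ≠ j → k ≠ i → k ≠ j →
      w i * σ (w i) + w j * σ (w j) ≠ 0 → w ∈ uSet (isU hne h2) M := by
    intro w hw hsub i j k hi hj hij hki hkj hs
    by_cases hwi : w i = 0
    · exact hsmall w hw i hi hwi hsub
    by_cases hwj : w j = 0
    · exact hsmall w hw j hj hwj hsub
    exact pair_step hne h2 hM hiso hn hij hki hkj hwi hwj hq hw hs htwo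
      fun z hz hzj hz' => hsmall z hz j hj hzj fun y hy => hz' y (hsub y hy)
  obtain ⟨T, hTS, hT⟩ := Finset.exists_subset_card_eq h3
  obtain ⟨i, j, l, hij, hil, hjl, rfl⟩ := Finset.card_eq_three.1 hT
  have hi : i ∈ S := hTS (by simp)
  have hj : j ∈ S := hTS (by simp)
  have hl : l ∈ S := hTS (by simp)
  by_cases e1 : v i * σ (v i) + v j * σ (v j) ≠ 0
  · exact hpair v hv (fun y h => h) i j l hi hj hij hil.symm hjl.symm e1
  by_cases e2 : v i * σ (v i) + v l * σ (v l) ≠ 0
  · exact hpair v hv (fun y h => h) i l j hi hl hil hij.symm hjl e2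
  by_cases e3 : v j * σ (v j) + v l * σ (v l) ≠ 0
  · exact hpair v hv (fun y h => h) j l i hj hl hjl hij hil e3
  push Not at e1 e2 e3
  have hNi : v i * σ (v i) ≠ 0 := mul_ne_zero ((hSv i).1 hi) fun h =>
    (hSv i).1 hi (σ.injective (by rw [h, map_zero]))
  have h20 : (2 : F) = 0 := by
    have : (2 : F) * (v i * σ (v i)) = 0 := by linear_combination e1 + e2 - e3
    exact (mul_eq_zero.1 this).resolve_right hNi
  have hneg : ∀ x : F, -x = x := fun x => by linear_combination -x * h20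
  obtain ⟨c, hc0, hc1, hc⟩ := exists_trace_zero_avoid hne h2 hq 1
  obtain ⟨ε, hεσ, -⟩ := exists_sigma_ne hne h2
  obtain ⟨β, hβ⟩ := exists_norm_eq hne h2 (s := (-1 : F)) (by simp)
  obtain ⟨ζ, hζ⟩ := exists_phase (σ := σ) (p := v j * σ β) (r := val ε * v i) (by
    simp only [map_mul, h2]
    linear_combination (v j * σ (v j)) * hβ - (v i * σ (v i)) * val_norm ε - e1)
  have hx := htwo i j hij 1 β (by rw [hβ]; simp)
  obtain ⟨D, hD, -, hD'⟩ := exists_mon hM 1 l (Function.update 1 j ζ)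
  set m := uTv hf (Pi.single i 1 + Pi.single j β) c * mon 1 D
  have hm : m ∈ M := M.mul_mem (hx.2 c hc) hD
  set w := (m : Matrix ι ι F) *ᵥ v with hw
  have hwy : ∀ y, w y = (D y : F) * v y
      + c * (v i + val ε * v i) * (Pi.single i 1 + Pi.single j β : ι → F) y := fun y => by
    rw [hw, gl_mulVec_mul, uTv_mulVec hf hx.1, dg_mulVec, add_right hf, stdF_single, stdF_single,
      map_one, mul_one, hD' i hil, hD' j hjl]
    simp [hij, ← hζ, val]
    ring
  have hsub : ∀ y, v y = 0 → w y = 0 := fun y hy => by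
    rw [hwy, hy]
    have h1 : y ≠ i := fun e => (hSv i).1 hi (e ▸ hy)
    have h3 : y ≠ j := fun e => (hSv j).1 hj (e ▸ hy)
    simp [h1, h3]
  have hwT : w ∈ uSet (isU hne h2) M := by
    refine hpair w ((mem_isoOf.1 (hiso hm) v v).trans hv) hsub i l j hi hl hil hij.symm hjl ?_
    have hwl : w l * σ (w l) = v l * σ (v l) := by
      have hDl : (D l : F) * σ (D l : F) = 1 := by
        have h1 := mem_isoOf.1 (hiso hD) (Pi.single l (1 : F)) (Pi.single l 1)
        rw [mon_mulVec_single, single_stdF, single_stdF] at h1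
        simpa [Equiv.Perm.one_def] using h1
      rw [hwy]
      simp [hil.symm, hjl.symm]
      linear_combination (v l * σ (v l)) * hDl
    rw [hwl, hwy, hD' i hil]
    simp [hij, val]
    intro e
    have hcc : σ c = c := by rw [hc, hneg]
    simp only [map_add, map_mul, map_one, hcc] at e
    have h1 : (c * (c + 1)) * ((val ε + σ (val ε)) * (v i * σ (v i))) = 0 := by
      linear_combination e - e2 - (c * c + c) * (v i * σ (v i)) * h20
        - (c * c * (v i * σ (v i))) * val_norm ε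
    have hc01 : c * (c + 1) ≠ 0 := mul_ne_zero hc0 fun h => hc1 (by
      rw [eq_neg_of_add_eq_zero_left h, hneg])
    have h6 := (mul_eq_zero.1 ((mul_eq_zero.1 h1).resolve_left hc01)).resolve_right hNi
    exact hεσ (by rw [eq_neg_of_add_eq_zero_right h6, hneg])
  have h5 := uSet_mulVec hf (M.inv_mem hm) (hiso (M.inv_mem hm)) hwT
  rwa [hw, gl_inv_mulVec_mulVec] at h5


end CfsgLib.ClassicalMax.UDec.LineGen
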