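/-
Six coordinates: some non-monomial element of an overgroup fixes a coordinate line.
-/
import Cfsg.Agent.Lib.ClassicalMax.UnitSixDecomp.Full
set_option autoImplicit false
set_option linter.unusedSectionVars false
set_option maxHeartbeats 1000000

namespace CfsgLib.ClassicalMax.UDec.SixU

open Matrix Cfsg.Geo MonG Unit

variable {ι : Type} [Fintype ι] [DecidableEq ι] {F : Type*} [Field F] [Fintype F] {σ : F ≃+* F}
  {M : Subgroup (GL ι F)}

/-- The norm of an entry of a column. -/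
noncomputable abbrev wt (σ : F ≃+* F) (g : GL ι F) (a y : ι) : F :=
  MonG.col g a y * σ (MonG.col g a y)

omit [Fintype F] in
lemma exists_sqrt [Fintype (nOne σ)] {h : ℕ} (hC : Fintype.card (nOne σ) = 2 * h) {u : nOne σ}
    (hu : val u ^ h = 1) : ∃ s : nOne σ, s * s = u := by
  obtain ⟨γ, hγ⟩ := IsCyclic.exists_monoid_generator (α := nOne σ)
  obtain ⟨m, rfl⟩ := Submonoid.mem_powers_iff u γ |>.1 (hγ u)
  have hh : 0 < h := by have := Fintype.card_pos (α := nOne σ); omega
  have hord : orderOf γ = 2 * h := by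
    rw [← hC, ← Nat.card_eq_fintype_card]
    exact orderOf_eq_card_of_forall_mem_powers hγ
  have h1 : γ ^ (m * h) = 1 := by
    rw [pow_mul]
    exact val_injective (by simpa [val] using hu)
  have h2 := orderOf_dvd_of_pow_eq_one h1
  rw [hord] at h2
  obtain ⟨l, rfl⟩ := Nat.dvd_of_mul_dvd_mul_right hh h2
  exact ⟨γ ^ l, by rw [← pow_add, two_mul]⟩

omit [Fintype F] in
lemma exists_six [Fintype (nOne σ)] (h4 : 4 ≤ Fintype.card (nOne σ))
    (he : 2 ∣ Fintype.card (nOne σ)) (h6 : Fintype.card (nOne σ) ≠ 6) :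
    ∃ w : nOne σ, w ^ 6 ≠ 1 := by
  obtain ⟨γ, hγ⟩ := IsCyclic.exists_monoid_generator (α := nOne σ)
  refine ⟨γ, fun e => ?_⟩
  have h := orderOf_dvd_of_pow_eq_one e
  rw [orderOf_eq_card_of_forall_mem_powers hγ, Nat.card_eq_fintype_card] at h
  have h' := Nat.le_of_dvd (by norm_num) h
  generalize Fintype.card (nOne σ) = C at *
  interval_cases C <;> omega

lemma exists_split {i j : ι} (hij : i ≠ j) (hn : Fintype.card ι = 6) :
    ∃ e : ι ≃ Fin 2 ⊕ Fin 4, e.symm (Sum.inl 0) = i ∧ e.symm (Sum.inl 1) = j := by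
  classical
  have hf : Function.Injective ![i, j] := by
    intro u v h; fin_cases u <;> fin_cases v <;> simp [hij, hij.symm] at h ⊢
  have h := Fintype.card_congr (Equiv.sumCompl fun y => y ∈ Set.range ![i, j])
  rw [Fintype.card_sum, ← Fintype.card_congr (Equiv.ofInjective ![i, j] hf), Fintype.card_fin] at h
  let e₁ : {y // y ∉ Set.range ![i, j]} ≃ Fin 4 :=
    Fintype.equivFinOfCardEq (by omega)
  exact ⟨(Equiv.sumCompl fun y => y ∈ Set.range ![i, j]).symm.trans
    (Equiv.sumCongr (Equiv.ofInjective ![i, j] hf).symm e₁), rfl, rfl⟩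

variable (hne : σ ≠ RingEquiv.refl F) (h2 : ∀ a : F, σ (σ a) = a)
  (hM : HasU σ M) (hiso : M ≤ isoOf (stdF (ι := ι) σ)) (hn : Fintype.card ι = 6)
  (hq : 3 ≤ qq σ) (hno : NoLine M) {g : GL ι F} (hg : g ∈ M) (hgm : ¬ Mon g) {a : ι}

include hne h2 hM hiso hn hq hno hg hgm

omit hq hM hiso hn hno hg hgm in
lemma m_one : ∃ m₁ : nOne σ, val m₁ = -1 :=
  ⟨⟨-1, by simp [mem_nOne]⟩, by simp⟩

omit hM hiso hn hq hno hg hgm in
lemma exists_theta : ∃ θ : ι → nOne σ, ∀ y, val (θ y) * σ (MonG.col g a y) = MonG.col g a y := by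
  choose θ hθ using fun y => exists_phase (σ := σ) (p := σ (MonG.col g a y)) (r := MonG.col g a y)
    (by rw [h2, mul_comm])
  exact ⟨θ, hθ⟩

lemma theta_pow (hchar : (2 : F) ≠ 0) {θ : ι → nOne σ}
    (hθ : ∀ y, val (θ y) * σ (MonG.col g a y) = MonG.col g a y) (y : ι) :
    val (θ y) ^ (qq σ / 2 + 1) = wt σ g a y ^ (qq σ / 2) := by
  have hx := full hne h2 hM hiso hn hq hno hg hgm a y
  have hσ : σ (MonG.col g a y) ≠ 0 := (map_ne_zero σ).2 hx
  have h := phase_class hne h2 hchar hx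
  rw [show MonG.col g a y / σ (MonG.col g a y) = val (θ y) from
    (div_eq_iff hσ).2 (hθ y).symm] at h
  rcases fix_pow hne h2 hchar (a := wt σ g a y) (by simp [wt, h2, mul_comm]) (mul_ne_zero hx hσ)
    with e | e <;> simp only [wt] at e ⊢ <;> rw [e] at h ⊢
  · simpa using h
  · linear_combination -h

/-- Three swapped pairs. -/
lemma swaps_false (e : ι ≃ Fin 3 × Fin 2) {θ : ι → nOne σ}
    (hθ : ∀ y, val (θ y) * σ (MonG.col g a y) = MonG.col g a y)
    {s : nOne σ} (hs : s * s * ∏ i, (θ (e.symm (i, 0)) * (θ (e.symm (i, 1)))⁻¹) = 1) : False := by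
  obtain ⟨m₁, hm₁⟩ := m_one hne h2 (σ := σ)
  have hmm : m₁ * m₁ = 1 := val_injective (by
    show val m₁ * val m₁ = 1
    rw [hm₁]; ring)
  refine blocks_false hne h2 hM hiso hn hq hno hg hgm (a := a) e (fun _ => Equiv.swap 0 1)
    (fun i => m₁ * (θ (e.symm (i, 0)) * (θ (e.symm (i, 1)))⁻¹)) (fun i => ?_)
    (ε := m₁) ?_ (s := s) ?_
  · have h0 := hθ (e.symm (i, 0))
    have h1 := hθ (e.symm (i, 1))
    have hn1 := val_ne_zero (θ (e.symm (i, 1)))
    simp only [val, Equiv.swap_apply_left, Equiv.swap_apply_right, Subgroup.coe_mul, Units.val_mul,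
      Subgroup.coe_inv, Units.val_inv_eq_inv_val] at h0 h1 hm₁ hn1 ⊢
    rw [hm₁]
    field_simp
    linear_combination (σ (MonG.col g a (e.symm (i, 1))) * ((θ (e.symm (i, 1)) : Fˣ) : F)) * (-h0)
      + (σ (MonG.col g a (e.symm (i, 0))) * ((θ (e.symm (i, 0)) : Fˣ) : F)) * h1
  · simp [hm₁]; norm_num
  · rw [← hs, Fin.prod_univ_three]
    calc _ = (m₁ * m₁) * (m₁ * m₁) * (s * s * (θ (e.symm (0, 0)) * (θ (e.symm (0, 1)))⁻¹ *
          (θ (e.symm (1, 0)) * (θ (e.symm (1, 1)))⁻¹) * (θ (e.symm (2, 0)) * (θ (e.symm (2, 1)))⁻¹))) := by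
          ac_rfl
      _ = _ := by rw [hmm, one_mul, one_mul]

variable (hchar : (2 : F) ≠ 0)
include hchar

omit hM hiso hn hno hg hgm in
lemma card_half : Fintype.card (nOne σ) = 2 * (qq σ / 2 + 1) := by
  rw [card_nOne hne h2]
  have := qq_odd hne h2 hchar
  omega

/-- A pair of one class: the complement is balanced. -/
lemma pair_false {i j : ι} (hij : i ≠ j)
    (hχ : wt σ g a i ^ (qq σ / 2) * wt σ g a j ^ (qq σ / 2) = 1)
    (hw : ∃ w : nOne σ, w ^ 6 ≠ 1)
    (hb : Even (qq σ / 2 + 1) ∨ ∀ x, ¬ Bal (wt σ g a) i j x) : False := by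
  classical
  obtain ⟨m₁, hm₁⟩ := m_one hne h2 (σ := σ)
  obtain ⟨θ, hθ⟩ := exists_theta hne h2 (g := g) (a := a) (σ := σ)
  obtain ⟨w, hw⟩ := hw
  obtain ⟨e, rfl, rfl⟩ := exists_split hij hn
  set n : Fin 4 → F := fun l => wt σ g a (e.symm (Sum.inr l)) with hn4
  have hx := full hne h2 hM hiso hn hq hno hg hgm a
  obtain ⟨d, hd, hdh⟩ : ∃ d : Fin 4 → nOne σ, ∑ l, val (d l) * n l = 0 ∧
      val (∏ l, d l) ^ (qq σ / 2 + 1) = 1 := by
    by_cases hnd : ∀ u v t : F, (u = 1 ∨ u = -1) → (v = 1 ∨ v = -1) → (t = 1 ∨ t = -1) →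
      n 0 + u * n 1 + v * n 2 + t * n 3 ≠ 0
    · exact quad hne h2 hchar (fun l => by simp [hn4, wt, h2, mul_comm])
        (fun l => mul_ne_zero (hx _) ((map_ne_zero σ).2 (hx _))) hnd (Or.inl rfl)
    push Not at hnd
    obtain ⟨u, v, t, hu, hv, ht, h⟩ := hnd
    have lift : ∀ z : F, (z = 1 ∨ z = -1) → ∃ z' : nOne σ, val z' = z := by
      rintro z (rfl | rfl)
      exacts [⟨1, by simp⟩, ⟨m₁, hm₁⟩]
    obtain ⟨u', hu'⟩ := lift u hu
    obtain ⟨v', hv'⟩ := lift v hv
    obtain ⟨t', ht'⟩ := lift t ht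
    refine ⟨![1, u', v', t'], ?_, ?_⟩
    · simp [Fin.sum_univ_four, val] at hu' hv' ht' ⊢
      rw [hu', hv', ht']
      linear_combination h
    have hval : val (∏ l, ![1, u', v', t'] l) = u * v * t := by
      simp [Fin.prod_univ_four, val] at hu' hv' ht' ⊢
      rw [hu', hv', ht']
    rw [hval]
    rcases hb with hb | hb
    · rcases hu with rfl | rfl <;> rcases hv with rfl | rfl <;> rcases ht with rfl | rfl <;>
        simp [hb.neg_one_pow]
    have hsum : wt σ g a (e.symm (Sum.inl 0)) + wt σ g a (e.symm (Sum.inl 1)) +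
        (n 0 + n 1 + n 2 + n 3) = 1 := by
      rw [← sum_weights h2 hiso hg (a := a), ← Equiv.sum_comp e.symm, Fintype.sum_sum_type,
        Fin.sum_univ_two, Fin.sum_univ_four]
    have nb : ∀ l, 2 * n l ≠ n 0 + n 1 + n 2 + n 3 := fun l hl => hb (e.symm (Sum.inr l))
      ⟨by simp, by simp, by linear_combination hsum + hl⟩
    rcases hu with rfl | rfl <;> rcases hv with rfl | rfl <;> rcases ht with rfl | rfl <;>
      first
        | (norm_num; done)
        | exact absurd (by linear_combination -h) (nb 3)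
        | exact absurd (by linear_combination -h) (nb 2)
        | exact absurd (by linear_combination -h) (nb 1)
        | exact absurd (by linear_combination h) (nb 0)
  set r : nOne σ := m₁ * (θ (e.symm (Sum.inl 0)) * (θ (e.symm (Sum.inl 1)))⁻¹) with hr
  obtain ⟨s, hs⟩ := exists_sqrt (h := qq σ / 2 + 1) (card_half hne h2 hq hchar)
    (u := (θ (e.symm (Sum.inl 0)) * (θ (e.symm (Sum.inl 1)))⁻¹ * ∏ l, d l)⁻¹) (by
      have h0 := theta_pow hne h2 hM hiso hn hq hno hg hgm hchar hθ (e.symm (Sum.inl 0))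
      have h1 := theta_pow hne h2 hM hiso hn hq hno hg hgm hchar hθ (e.symm (Sum.inl 1))
      simp only [val, Subgroup.coe_mul, Units.val_mul, Subgroup.coe_inv, Units.val_inv_eq_inv_val]
        at h0 h1 hdh ⊢
      rw [inv_pow, mul_pow, mul_pow, inv_pow, h0, h1, hdh, mul_one, inv_eq_one]
      rcases fix_pow hne h2 hchar (a := wt σ g a (e.symm (Sum.inl 1))) (by simp [wt, h2, mul_comm])
        (mul_ne_zero (hx _) ((map_ne_zero σ).2 (hx _))) with h' | h' <;> rw [h'] at hχ ⊢ <;>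
        simpa using hχ)
  refine pair_four_false hne h2 hM hiso hn hq hno hg hgm (a := a) e d hd (r := r) ?_ hm₁
    (s := s) ?_ hw
  · have h0 := hθ (e.symm (Sum.inl 0))
    have h1 := hθ (e.symm (Sum.inl 1))
    have hn1 := val_ne_zero (θ (e.symm (Sum.inl 1)))
    simp only [hr, val, Subgroup.coe_mul, Units.val_mul,
      Subgroup.coe_inv, Units.val_inv_eq_inv_val] at h0 h1 hm₁ hn1 ⊢
    rw [hm₁]
    field_simp
    linear_combination
      (σ (MonG.col g a (e.symm (Sum.inl 1))) * ((θ (e.symm (Sum.inl 1)) : Fˣ) : F)) * (-h0)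
      + (σ (MonG.col g a (e.symm (Sum.inl 0))) * ((θ (e.symm (Sum.inl 0)) : Fˣ) : F)) * h1
  · have hmm : m₁ * m₁ = 1 := val_injective (by
      show val m₁ * val m₁ = 1
      rw [hm₁]; ring)
    rw [hs, hr]
    calc _ = (m₁ * m₁) * ((θ (e.symm (Sum.inl 0)) * (θ (e.symm (Sum.inl 1)))⁻¹ * ∏ l, d l)⁻¹ *
          (θ (e.symm (Sum.inl 0)) * (θ (e.symm (Sum.inl 1)))⁻¹ * ∏ l, d l)) := by ac_rfl
      _ = 1 := by rw [hmm, inv_mul_cancel, one_mul]

omit hg hgm hM hiso hno hne h2 hq in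
lemma bal_triple {N : ι → F} (hN : Function.Injective N) (hsum : ∑ i, N i = 1) {A : Finset ι}
    (hA : A.card = 3) (hbal : ∀ i ∈ A, ∀ j ∈ A, i ≠ j → ∃ x, Bal N i j x) :
    ∃ p q r, p ≠ q ∧ p ≠ r ∧ q ≠ r ∧ A = {p, q, r} ∧ Bal N p q r ∧
      (∃ z, Bal N q r z) ∧ ∃ z, Bal N p r z := by
  classical
  obtain ⟨p, q, r, hpq, hpr, hqr, rfl⟩ := Finset.card_eq_three.1 hA
  obtain ⟨x, hx⟩ := hbal q (by simp) r (by simp) hqr
  obtain ⟨y, hy⟩ := hbal p (by simp) r (by simp) hpr
  obtain ⟨z, hz⟩ := hbal p (by simp) q (by simp) hpq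
  rcases triple_special hN hchar hn hsum hpq hpr hqr hx hy hz with rfl | rfl | rfl
  · exact ⟨q, r, _, hqr, hpq.symm, hpr.symm, by aesop, hx,
      hbal r (by simp) _ (by simp) hpr.symm, hbal q (by simp) _ (by simp) hpq.symm⟩
  · exact ⟨p, r, _, hpr, hpq, hqr.symm, by aesop, hy,
      hbal r (by simp) _ (by simp) hqr.symm, hbal p (by simp) _ (by simp) hpq⟩
  · exact ⟨p, q, _, hpq, hpr, hqr, rfl, hz, ⟨x, hx⟩, ⟨y, hy⟩⟩

lemma odd_false : False := by
  classical
  obtain ⟨a⟩ : Nonempty ι := Fintype.card_pos_iff.1 (by omega)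
  obtain ⟨θ, hθ⟩ := exists_theta hne h2 (g := g) (a := a) (σ := σ)
  set k := qq σ / 2 with hk
  set N : ι → F := wt σ g a with hN
  have hx := full hne h2 hM hiso hn hq hno hg hgm a
  have hN0 : ∀ y, N y ≠ 0 := fun y => mul_ne_zero (hx y) ((map_ne_zero σ).2 (hx y))
  have hNfix : ∀ y, σ (N y) = N y := fun y => by simp [hN, wt, h2, mul_comm]
  have hsum : ∑ y, N y = 1 := sum_weights h2 hiso hg
  have pm : ∀ y, N y ^ k = 1 ∨ N y ^ k = -1 := fun y => fix_pow hne h2 hchar (hNfix y) (hN0 y)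
  have h11 : (1 : F) ≠ -1 := fun e => hchar (by linear_combination e)
  have hC := card_half hne h2 hq hchar
  have h4 := four_le_card hne h2 hq
  rcases Nat.even_or_odd (k + 1) with he | ho
  · have hw : ∃ w : nOne σ, w ^ 6 ≠ 1 := exists_six h4 (Dvd.intro _ hC.symm) (by
      obtain ⟨t, ht⟩ := he
      omega)
    obtain ⟨i1, h1a, -⟩ := exists_notMem (by omega) a a a
    obtain ⟨i2, h2a, h21, -⟩ := exists_notMem (by omega) a i1 i1
    have pf : ∀ i j, i ≠ j → N i ^ k * N j ^ k = 1 → False := fun i j hij h =>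
      pair_false hne h2 hM hiso hn hq hno hg hgm hchar (a := a) hij h hw (Or.inl he)
    rcases pm a with e0 | e0 <;> rcases pm i1 with e1 | e1 <;> rcases pm i2 with e2 | e2 <;>
      first
        | (refine pf a i1 h1a.symm ?_; rw [e0, e1]; norm_num; done)
        | (refine pf a i2 h2a.symm ?_; rw [e0, e2]; norm_num; done)
        | (refine pf i1 i2 h21.symm ?_; rw [e1, e2]; norm_num; done)
  have hprodθ : ∀ (e : ι ≃ Fin 3 × Fin 2) (l : Fin 3), val (θ (e.symm (l, 0)) * (θ (e.symm (l, 1)))⁻¹)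
      ^ (k + 1) = N (e.symm (l, 0)) ^ k * N (e.symm (l, 1)) ^ k := fun e l => by
    have h0 := theta_pow hne h2 hM hiso hn hq hno hg hgm hchar hθ (e.symm (l, 0))
    have h1 := theta_pow hne h2 hM hiso hn hq hno hg hgm hchar hθ (e.symm (l, 1))
    simp only [val, Subgroup.coe_mul, Units.val_mul, Subgroup.coe_inv, Units.val_inv_eq_inv_val]
      at h0 h1 ⊢
    rw [mul_pow, inv_pow, h0, h1]
    rcases pm (e.symm (l, 1)) with h | h <;> simp only [hN, hk] at h ⊢ <;> rw [h] <;> simp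
  rcases (show (∏ y, N y ^ k) = 1 ∨ (∏ y, N y ^ k) = -1 by
    refine Finset.prod_induction _ (fun z => z = 1 ∨ z = -1) ?_ (Or.inl rfl) fun y _ => pm y
    rintro u v (rfl | rfl) (rfl | rfl) <;> simp) with hP | hP
  · let e : ι ≃ Fin 3 × Fin 2 := Fintype.equivOfCardEq (by simp [hn])
    obtain ⟨s, hs⟩ := exists_sqrt hC
      (u := (∏ i, (θ (e.symm (i, 0)) * (θ (e.symm (i, 1)))⁻¹))⁻¹) (by
        rw [show val (∏ i, (θ (e.symm (i, 0)) * (θ (e.symm (i, 1)))⁻¹))⁻¹ =
          (∏ i, val (θ (e.symm (i, 0)) * (θ (e.symm (i, 1)))⁻¹))⁻¹ by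
            simp [val, Units.coe_prod, SubmonoidClass.coe_finsetProd],
          inv_pow, ← Finset.prod_pow, Finset.prod_congr rfl fun l _ => hprodθ e l, inv_eq_one]
        rw [← hP, ← Equiv.prod_comp e.symm (fun y => N y ^ k), Fintype.prod_prod_type]
        simp [Fin.prod_univ_two])
    exact swaps_false hne h2 hM hiso hn hq hno hg hgm e hθ (s := s) (by rw [hs, inv_mul_cancel])
  by_cases hinj : Function.Injective N
  swap
  · simp only [Function.Injective, not_forall] at hinj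
    obtain ⟨i, j, hNij, hij⟩ := hinj
    obtain ⟨e', hi, hj⟩ := exists_split hij hn
    let E : Fin 2 ⊕ Fin 4 ≃ Fin 3 × Fin 2 := Equiv.ofBijective
      (Sum.elim (fun l => (2, l)) ![(0, 0), (0, 1), (1, 0), (1, 1)]) (by decide)
    let e := e'.trans E
    have hei : e.symm (2, 0) = i := by
      rw [Equiv.symm_apply_eq, ← hi]; simp [e, E]
    have hej : e.symm (2, 1) = j := by
      rw [Equiv.symm_apply_eq, ← hj]; simp [e, E]
    obtain ⟨m₁, hm₁⟩ := m_one hne h2 (σ := σ)
    have hmm : m₁ * m₁ = 1 := val_injective (by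
      show val m₁ * val m₁ = 1
      rw [hm₁]; ring)
    have hPe : (N (e.symm (0, 0)) ^ k * N (e.symm (0, 1)) ^ k) *
        (N (e.symm (1, 0)) ^ k * N (e.symm (1, 1)) ^ k) = -1 := by
      rw [← hP, ← Equiv.prod_comp e.symm (fun y => N y ^ k), Fintype.prod_prod_type]
      simp [Fin.prod_univ_two, Fin.prod_univ_three, hei, hej, hNij]
      rcases pm j with h | h <;> simp [h]
    obtain ⟨s, hs⟩ := exists_sqrt hC (u := ((θ (e.symm (0, 0)) * (θ (e.symm (0, 1)))⁻¹) *
        (θ (e.symm (1, 0)) * (θ (e.symm (1, 1)))⁻¹) * m₁)⁻¹) (by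
      have a0 := hprodθ e 0
      have a1 := hprodθ e 1
      simp only [val, Subgroup.coe_mul, Units.val_mul, Subgroup.coe_inv, Units.val_inv_eq_inv_val]
        at a0 a1 hm₁ ⊢
      rw [inv_pow, mul_pow, mul_pow, a0, a1, hm₁, hPe, ho.neg_one_pow]
      norm_num)
    refine blocks_false hne h2 hM hiso hn hq hno hg hgm (a := a) e
      ![Equiv.swap 0 1, Equiv.swap 0 1, 1]
      ![m₁ * (θ (e.symm (0, 0)) * (θ (e.symm (0, 1)))⁻¹),
        m₁ * (θ (e.symm (1, 0)) * (θ (e.symm (1, 1)))⁻¹), m₁]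
      (fun l => ?_) (ε := 1) ?_ (s := s) ?_
    · have aux : ∀ p q : ι, MonG.col g a p * σ (MonG.col g a q) + val (m₁ * (θ p * (θ q)⁻¹)) *
          MonG.col g a q * σ (MonG.col g a p) = 0 := fun p q => by
        have h0 := hθ p
        have h1 := hθ q
        have hn1 := val_ne_zero (θ q)
        simp only [val, Subgroup.coe_mul, Units.val_mul, Subgroup.coe_inv, Units.val_inv_eq_inv_val]
          at h0 h1 hm₁ hn1 ⊢
        rw [hm₁]
        field_simp
        linear_combination (σ (MonG.col g a q) * ((θ q : Fˣ) : F)) * (-h0)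
          + (σ (MonG.col g a p) * ((θ p : Fˣ) : F)) * h1
      fin_cases l
      · simpa using aux _ _
      · simpa using aux _ _
      · simp [hei, hej, hm₁]
        simp only [hN, wt] at hNij
        linear_combination hNij
    · simp [Equiv.Perm.sign_swap, Fin.prod_univ_three]
    · simp only [Matrix.cons_val_zero, Matrix.cons_val_one, Matrix.cons_val, mul_one, hs]
      calc _ = (m₁ * m₁) * (((θ (e.symm (0, 0)) * (θ (e.symm (0, 1)))⁻¹) *
            (θ (e.symm (1, 0)) * (θ (e.symm (1, 1)))⁻¹) * m₁)⁻¹ *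
            ((θ (e.symm (0, 0)) * (θ (e.symm (0, 1)))⁻¹) *
            (θ (e.symm (1, 0)) * (θ (e.symm (1, 1)))⁻¹) * m₁)) := by ac_rfl
        _ = 1 := by rw [hmm, inv_mul_cancel, one_mul]
  have h6 : 6 ≤ qq σ := by
    have h := Nat.card_le_card_of_injective (fun y => (⟨N y, hNfix y⟩ : fixedField σ))
      (fun y z h => hinj (congrArg Subtype.val h))
    rwa [Nat.card_eq_fintype_card, hn] at h
  have hw : ∃ w : nOne σ, w ^ 6 ≠ 1 := exists_six h4 (Dvd.intro _ hC.symm) (by
    rw [card_nOne hne h2]; omega)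
  have hbal : ∀ (c : F), ∀ i ∈ Finset.univ.filter (fun y => N y ^ k = c),
      ∀ j ∈ Finset.univ.filter (fun y => N y ^ k = c), i ≠ j → ∃ x, Bal N i j x := by
    intro c i hi j hj hij
    simp only [Finset.mem_filter, Finset.mem_univ, true_and] at hi hj
    by_contra h
    push Not at h
    refine pair_false hne h2 hM hiso hn hq hno hg hgm hchar hij ?_ hw (Or.inr h)
    rw [show wt σ g a i ^ (qq σ / 2) = c from hi, show wt σ g a j ^ (qq σ / 2) = c from hj]
    rcases pm i with h' | h' <;> rw [hi] at h' <;> rw [h'] <;> ring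
  set A := Finset.univ.filter (fun y => N y ^ k = 1) with hA
  set B := Finset.univ.filter (fun y => N y ^ k = -1) with hB
  have hBA : B = Aᶜ := by
    ext y
    simp only [hA, hB, Finset.mem_compl, Finset.mem_filter, Finset.mem_univ, true_and]
    rcases pm y with h | h <;> rw [h] <;> simp [h11, Ne.symm h11]
  have hodd : Odd B.card := by
    rcases Nat.even_or_odd B.card with he | ho'
    · exfalso
      apply h11
      rw [← hP, ← Finset.prod_mul_prod_compl A, Finset.prod_congr rfl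
        (fun y hy => (Finset.mem_filter.1 hy).2), ← hBA, Finset.prod_congr rfl
        (fun y hy => (Finset.mem_filter.1 hy).2), Finset.prod_const_one, Finset.prod_const,
        he.neg_one_pow, one_mul]
    · exact ho'
  have hcardAB : A.card + B.card = 6 := by rw [hBA, Finset.card_add_card_compl, hn]
  obtain h5 | h5 | ⟨hA3, hB3⟩ : A.card = 5 ∨ B.card = 5 ∨ (A.card = 3 ∧ B.card = 3) := by
    obtain ⟨t, ht⟩ := hodd; omega
  · exact five_false hinj hchar hn hsum h5 (hbal 1)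
  · exact five_false hinj hchar hn hsum h5 (hbal (-1))
  obtain ⟨p, q, r, hpq, hpr, hqr, hAe, hr, ⟨z, hz⟩, ⟨z', hz'⟩⟩ :=
    bal_triple hn hchar hinj hsum hA3 (hbal 1)
  obtain ⟨p', q', r', hpq', hpr', hqr', hBe, hr', ⟨t, ht⟩, ⟨t', ht'⟩⟩ :=
    bal_triple hn hchar hinj hsum hB3 (hbal (-1))
  exact three_three_false hinj hchar hn hsum hpq hpr hqr hpq' hpr' hqr'
    (by rw [← hAe, ← hBe, hBA]) hr hr' hz hz' ht ht'



omit hchar in
lemma noline_false : False := by
  classical
  obtain ⟨a⟩ : Nonempty ι := Fintype.card_pos_iff.1 (by omega)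
  by_cases hchar : (2 : F) = 0
  · obtain ⟨θ, hθ⟩ := exists_theta hne h2 (g := g) (a := a) (σ := σ)
    let e : ι ≃ Fin 3 × Fin 2 := Fintype.equivOfCardEq (by simp [hn])
    have hinj : Function.Injective fun x : nOne σ => x * x := fun x y hxy => by
      refine val_injective ?_
      have h1 := congrArg val hxy
      simp only [val, Subgroup.coe_mul, Units.val_mul] at h1
      have h3 : (val x - val y) * (val x - val y) = 0 := by
        linear_combination h1 - (val x * val y - val y * val y) * hchar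
      exact sub_eq_zero.1 (mul_self_eq_zero.1 h3)
    obtain ⟨s, hs⟩ := Finite.injective_iff_surjective.1 hinj
      (∏ i, (θ (e.symm (i, 0)) * (θ (e.symm (i, 1)))⁻¹))⁻¹
    exact swaps_false hne h2 hM hiso hn hq hno hg hgm e hθ (s := s)
      (by rw [show s * s = _ from hs, inv_mul_cancel])
  · exact odd_false hne h2 hM hiso hn hq hno hg hgm hchar


omit hchar hno in
/-- Some non-monomial element of `M` fixes a coordinate line. -/
theorem exists_fix_line :
    ∃ k ∈ M, ¬ Mon k ∧ ∃ a, ∀ y, y ≠ a → (k : Matrix ι ι F) y a = 0 := by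
  by_contra hcon
  exact noline_false hne h2 hM hiso hn hq
    (fun k hk a ha => by_contra fun h => hcon ⟨k, hk, h, a, ha⟩) hg hgm

end CfsgLib.ClassicalMax.UDec.SixU
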